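import Mathlib
import Cfsg.Prelude.Def_Classical
import Cfsg.Agent.Lib.G24.Field

/-!
Recognition of PSU(6, 2) from one perp set of transpositions: the interface.

A near point of the six-dimensional unitary space at `a` is written `pt p c`, for the isotropic vector
`p + c a` with `p` in the four-dimensional middle space, up to scalars. The hypotheses are the shape of
the commuting relation on the near points and the existence of the translations `c ↦ c + h(p, w)`.

Owner: helper47.
-/

set_option autoImplicit false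

namespace Cfsg.Agent.Lib.U62Recog47

open Cfsg.Agent.Lib.G24

/-- the middle space -/
abbrev V4 : Type := Fin 4 → K4

/-- the hermitian form on the middle space, linear in the first variable -/
def h4 (v w : V4) : K4 :=
  v 0 * (w 0 * w 0) + v 1 * (w 1 * w 1) + v 2 * (w 2 * w 2) + v 3 * (w 3 * w 3)

/-- a non-zero isotropic vector -/
def Iso (p : V4) : Prop := p ≠ 0 ∧ h4 p p = 0

variable {K : Type*} [Group K]

/-- the members of `D` other than `a` commuting with it -/
def perp (D : Set K) (a : K) : Set K := {x | x ∈ D ∧ x ≠ a ∧ Commute a x}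

/-- the perp set of `a` is that of a transvection of U6(2) -/
structure Chart (D : Set K) (a : K) where
  pt : V4 → K4 → K
  scale : ∀ p c l, Iso p → l ≠ 0 → pt (l • p) (l * c) = pt p c
  mem : ∀ p c, Iso p → pt p c ∈ perp D a
  surj : ∀ x ∈ perp D a, ∃ p c, Iso p ∧ x = pt p c
  inj : ∀ p q c d, Iso p → Iso q → pt p c = pt q d → ∃ l : K4, l ≠ 0 ∧ q = l • p ∧ d = l * c
  comm : ∀ p q c d, Iso p → Iso q → (Commute (pt p c) (pt q d) ↔ h4 p q = 0)
  braid : ∀ p q c d, Iso p → Iso q → h4 p q ≠ 0 → (pt p c * pt q d) ^ 3 = 1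
  shift : ∀ w : V4, ∃ g : K, Commute g a ∧
    ∀ p c, Iso p → g * pt p c * g⁻¹ = pt p (c + h4 p w)

/-- the setting: a class of involutions whose perp sets are those of transvections of U6(2) -/
structure Host (D : Set K) (a : K) where
  mem : a ∈ D
  order : ∀ x ∈ D, orderOf x = 2
  conjD : ∀ g : K, ∀ x ∈ D, g * x * g⁻¹ ∈ D
  trans : ∀ x ∈ D, ∃ g : K, g * a * g⁻¹ = x
  chart : Chart D a
  /-- only `1` and `a` centralise `a` and its perp set -/
  kernel : ∀ g : K, Commute g a → (∀ x ∈ perp D a, Commute g x) → g = 1 ∨ g = a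

/-- `x` lies at distance at most two from `a` -/
def Rel (D : Set K) (a x : K) : Prop :=
  x ∈ D ∧ (Commute a x ∨ ∃ t ∈ perp D a, Commute t x)

/-- the component of `a` in the commuting graph -/
def comp (D : Set K) (a : K) : Set K := {x | Rel D a x}

/-- what the recognition delivers -/
def Conclusion (D : Set K) (a : K) : Prop :=
  (∀ x ∈ comp D a, ∀ y ∈ D, Commute x y → y ∈ comp D a) ∧ (comp D a).ncard = 693 ∧
    (∀ x ∈ comp D a, ∀ y ∈ comp D a, ¬ Commute x y → (x * y) ^ 3 = 1) ∧
    Nonempty (↥(Subgroup.closure (comp D a)) ≃* Cfsg.PSU 6 K4 2)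

end Cfsg.Agent.Lib.U62Recog47
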