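import Cfsg.Agent.Lib.U62Recog47.Far
import Cfsg.Agent.Lib.CosetEnum.U62.Unitary
import Cfsg.Agent.Lib.Unitary.Simple
import Cfsg.Agent.Lib.Unitary.Generation

/-!
Recognition of PSU(6, 2): the component is the set of the 693 isotropic points, its members act on it
as the transvections, and it generates PSU(6, 2).

Owner: helper47.
-/

set_option autoImplicit false
set_option maxRecDepth 20000
set_option linter.constructorNameAsVariable false

namespace Cfsg.Agent.Lib.U62Recog47

open Cfsg.Agent.Lib.G24 Cfsg.Agent.Lib.CosetEnum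

variable {K : Type*} [Group K] {D : Set K} {a : K}

theorem k4_pow_two (x : K4) : x ^ 2 = x * x := pow_two x

/-- six coordinates from a pair of hyperbolic ones and four middle ones -/
def emb (α : K4) (v : V4) (β : K4) : Fin 6 → K4 :=
  ![α + β * .w, α + β * .v, v 0, v 1, v 2, v 3]

/-- the coordinate at the second hyperbolic vector -/
def pβ (x : Fin 6 → K4) : K4 := x 0 + x 1

/-- the coordinate at the first hyperbolic vector -/
def pα (x : Fin 6 → K4) : K4 := x 0 + (x 0 + x 1) * .w

/-- the middle coordinates -/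
def pv4 (x : Fin 6 → K4) : V4 := ![x 2, x 3, x 4, x 5]

theorem emb_proj (x : Fin 6 → K4) : emb (pα x) (pv4 x) (pβ x) = x := by
  have key : ∀ p q : K4, p + (p + q) * .w + (p + q) * .w = p ∧
      p + (p + q) * .w + (p + q) * .v = q := by decide
  funext k
  fin_cases k <;> simp [emb, pα, pβ, pv4, key]

theorem proj_emb (α : K4) (v : V4) (β : K4) :
    pα (emb α v β) = α ∧ pv4 (emb α v β) = v ∧ pβ (emb α v β) = β := by
  have key : ∀ α β : K4, α + β * .w + (α + β * .w + (α + β * .v)) * .w = α ∧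
      α + β * .w + (α + β * .v) = β := by decide
  refine ⟨?_, ?_, ?_⟩
  · simp only [pα, emb, Matrix.cons_val_zero, Matrix.cons_val_one]; exact (key α β).1
  · funext k; fin_cases k <;> simp [pv4, emb]
  · simp only [pβ, emb, Matrix.cons_val_zero, Matrix.cons_val_one]; exact (key α β).2

theorem emb_smul (l α : K4) (v : V4) (β : K4) : emb (l * α) (l • v) (l * β) = l • emb α v β := by
  funext k; fin_cases k <;> simp [emb] <;> ring

theorem herm_emb (α : K4) (v : V4) (β : K4) (α' : K4) (v' : V4) (β' : K4) :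
    U62.herm (emb α v β) (emb α' v' β') = α * (β' * β') + β * (α' * α') + h4 v v' := by
  have key : ∀ α β α' β' : K4, (α + β * .w) * ((α' + β' * .w) * (α' + β' * .w)) +
      (α + β * .v) * ((α' + β' * .v) * (α' + β' * .v)) = α * (β' * β') + β * (α' * α') := by
    decide +kernel
  simp only [U62.herm, Cfsg.hermForm, Fin.sum_univ_six, emb, k4_pow_two, h4]
  simp only [Matrix.cons_val_zero, Matrix.cons_val_one, Matrix.cons_val]
  rw [← key α β α' β']; ring

variable (h : Host D a)

include h in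
theorem Host.exists_centred : ∃ (h' : Host D a) (x₀ : K), Centred h' x₀ := by
  obtain ⟨x₀, hx⟩ := h.exists_far
  exact ⟨h.recenter hx, x₀, hx, fun p hp => h.recenter_sec hx hp⟩

include h in
theorem Host.rel_step {x y : K} (hx : Rel D a x) (hy : y ∈ D) (hxy : Commute x y) : Rel D a y := by
  by_cases hax : Commute a x
  · by_cases hxa : x = a
    · exact ⟨hy, Or.inl (hxa ▸ hxy)⟩
    · exact ⟨hy, Or.inr ⟨x, ⟨hx.1, hxa, hax⟩, hxy⟩⟩
  · exact h.far_step ⟨hx.1, hax, hx.2.resolve_left hax⟩ hy hxy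

include h in
theorem Host.rel_symm {x : K} (hx : Rel D a x) : Rel D x a := by
  refine ⟨h.mem, ?_⟩
  by_cases hax : Commute a x
  · exact Or.inl hax.symm
  obtain ⟨t, ht, htx⟩ := hx.2.resolve_left hax
  exact Or.inr ⟨t, ⟨ht.1, fun e => hax (e ▸ ht.2.2), htx.symm⟩, ht.2.2.symm⟩

include h in
theorem Host.rel_of {x y : K} (hx : Rel D a x) (hy : Rel D a y) : Rel D x y := by
  have h0 := h.rel_symm hx
  by_cases hay : Commute a y
  · exact (h.rebase hx.1).rel_step h0 hy.1 hay
  obtain ⟨t, ht, hty⟩ := hy.2.resolve_left hay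
  exact (h.rebase hx.1).rel_step ((h.rebase hx.1).rel_step h0 ht.1 ht.2.2) hy.1 hty

include h in
theorem Host.rel_trans {x y : K} (hx : Rel D a x) (hy : Rel D x y) : Rel D a y := by
  by_cases hxy : Commute x y
  · exact h.rel_step hx hy.1 hxy
  obtain ⟨t, ht, hty⟩ := hy.2.resolve_left hxy
  exact h.rel_step (h.rel_step hx ht.1 ht.2.2) hy.1 hty

include h in
theorem Host.comp_conj {g x : K} (hg : g ∈ comp D a) (hx : x ∈ comp D a) :
    g * x * g⁻¹ ∈ comp D a := by
  have hgx : Rel D g x := h.rel_of hg hx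
  refine h.rel_trans hg ⟨h.conjD g x hgx.1, ?_⟩
  rcases hgx.2 with e | ⟨t, ht, htx⟩
  · left; rw [conj_fix e]; exact e
  · refine Or.inr ⟨g * t * g⁻¹, ?_, (conj_commute g t x).2 htx⟩
    rw [conj_fix ht.2.2]
    exact ht

include h in
theorem Host.braid_comp {x y : K} (hx : x ∈ comp D a) (hy : y ∈ comp D a) (hxy : ¬ Commute x y) :
    (x * y) ^ 3 = 1 := by
  obtain ⟨t, ht, hty⟩ := (h.rel_of hx hy).2.resolve_left hxy
  obtain ⟨C⟩ := Chart.exists_map h ht.1
  obtain ⟨i, c, rfl⟩ := C.pr_surj (x := x)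
    ⟨hx.1, fun e => hxy (e ▸ hty), ht.2.2.symm⟩
  obtain ⟨j, d, rfl⟩ := C.pr_surj (x := y)
    ⟨hy.1, fun e => hxy (e ▸ ht.2.2), hty⟩
  exact C.braid _ _ _ _ (rv_iso i) (rv_iso j) fun e => hxy ((C.pr_comm i j c d).2 ((orth_iff i j).1 e))

variable {h} (Co : Coord h)

open Classical in
/-- the member of the component at an isotropic vector -/
noncomputable def Coord.el6 (x : Fin 6 → K4) : K :=
  if pβ x = 0 then (if pv4 x = 0 then a else h.chart.pt (pv4 x) (pα x))
  else Co.el ((pβ x)⁻¹ * pα x) ((pβ x)⁻¹ • pv4 x)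

/-- the three normal forms -/
inductive Shape : (Fin 6 → K4) → Prop
  | top : Shape (emb 1 0 0)
  | near (p : V4) (c : K4) : Iso p → Shape (emb c p 0)
  | far (α : K4) (v : V4) : Valid α v → Shape (emb α v 1)

theorem exists_shape {x : Fin 6 → K4} (hx : x ≠ 0) (h0 : U62.herm x x = 0) :
    ∃ (l : K4) (y : Fin 6 → K4), l ≠ 0 ∧ Shape y ∧ x = l • y := by
  have e := emb_proj x
  generalize pα x = α, pv4 x = v, pβ x = β at e
  subst e
  rw [herm_emb] at h0
  by_cases hβ : β = 0
  · subst hβ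
    by_cases hv : v = 0
    · subst hv
      have hα : α ≠ 0 := fun e => hx (by
        subst e; funext k; fin_cases k <;> simp [emb])
      exact ⟨α, _, hα, .top, by rw [← emb_smul, mul_one, smul_zero, mul_zero]⟩
    · exact ⟨1, _, one_ne_zero, .near v α ⟨hv, by simpa using h0⟩, (one_smul _ _).symm⟩
  · refine ⟨β, emb (β⁻¹ * α) (β⁻¹ • v) 1, hβ, .far _ _ ?_, ?_⟩
    · have key : ∀ α β A : K4, β ≠ 0 → α * (β * β) + β * (α * α) + A = 0 →
          β⁻¹ * α + β⁻¹ * α * (β⁻¹ * α) = β⁻¹ * (β⁻¹ * β⁻¹ * A) := by decide +kernel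
      unfold Valid
      rw [h4_smul_left, h4_smul_right]
      exact key _ _ _ hβ h0
    · rw [← emb_smul, mul_inv_cancel_left₀ hβ, smul_smul, mul_inv_cancel₀ hβ, one_smul, mul_one]

theorem el6_smul {x : Fin 6 → K4} (hx : Shape x) {l : K4} (hl : l ≠ 0) :
    Co.el6 (l • x) = Co.el6 x := by
  cases hx with
  | top =>
    rw [← emb_smul, smul_zero, mul_zero]
    simp [Coord.el6, proj_emb]
  | near p c hp =>
    rw [← emb_smul, mul_zero]
    simp [Coord.el6, proj_emb, hp.1, (hp.smul hl).1, h.chart.scale p c l hp hl]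
  | far α v hv =>
    rw [← emb_smul, mul_one]
    simp [Coord.el6, proj_emb, hl, smul_smul]

theorem el6_top : Co.el6 (emb 1 0 0) = a := by simp [Coord.el6, proj_emb]

theorem el6_near {p : V4} (hp : Iso p) (c : K4) : Co.el6 (emb c p 0) = h.chart.pt p c := by
  simp [Coord.el6, proj_emb, hp.1]

theorem el6_far (α : K4) (v : V4) : Co.el6 (emb α v 1) = Co.el α v := by
  simp [Coord.el6, proj_emb]

theorem el6_mem {x : Fin 6 → K4} (hx : Shape x) : Co.el6 x ∈ comp D a := by
  cases hx with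
  | top => rw [el6_top]; exact ⟨h.mem, Or.inl (Commute.refl a)⟩
  | near p c hp =>
    rw [el6_near Co hp]
    exact ⟨(h.chart.mem p c hp).1, Or.inl (h.chart.mem p c hp).2.2⟩
  | far α v hv =>
    rw [el6_far]
    have hf := Co.far α v hv
    exact ⟨hf.1, Or.inr hf.2.2⟩

theorem el6_inj {x y : Fin 6 → K4} (hx : Shape x) (hy : Shape y) (e : Co.el6 x = Co.el6 y) :
    ∃ l : K4, l ≠ 0 ∧ y = l • x := by
  cases hx with
  | top =>
    cases hy with
    | top => exact ⟨1, one_ne_zero, (one_smul _ _).symm⟩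
    | near q d hq =>
      rw [el6_top, el6_near Co hq] at e
      exact absurd e.symm (h.chart.mem q d hq).2.1
    | far β w hw =>
      rw [el6_top, el6_far] at e
      exact absurd (e ▸ Commute.refl a : Commute a (Co.el β w)) (Co.far β w hw).2.1
  | near p c hp =>
    rw [el6_near Co hp] at e
    cases hy with
    | top =>
      rw [el6_top] at e
      exact absurd e (h.chart.mem p c hp).2.1
    | near q d hq =>
      rw [el6_near Co hq] at e
      obtain ⟨l, hl, rfl, rfl⟩ := h.chart.inj p q c d hp hq e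
      exact ⟨l, hl, by rw [← emb_smul, mul_zero]⟩
    | far β w hw =>
      rw [el6_far] at e
      exact absurd (e ▸ (h.chart.mem p c hp).2.2) (Co.far β w hw).2.1
  | far α v hv =>
    rw [el6_far] at e
    cases hy with
    | top =>
      rw [el6_top] at e
      exact absurd (e.symm ▸ Commute.refl a : Commute a (Co.el α v)) (Co.far α v hv).2.1
    | near q d hq =>
      rw [el6_near Co hq] at e
      exact absurd (e.symm ▸ (h.chart.mem q d hq).2.2) (Co.far α v hv).2.1
    | far β w hw =>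
      rw [el6_far] at e
      obtain ⟨rfl, rfl⟩ := Co.inj α v β w hv hw e
      exact ⟨1, one_ne_zero, (one_smul _ _).symm⟩

theorem near_far_iff {p : V4} (hp : Iso p) (c : K4) {α : K4} {v : V4} (hv : Valid α v) :
    Commute (h.chart.pt p c) (Co.el α v) ↔ c + h4 p v = 0 := by
  rw [show Commute (h.chart.pt p c) (Co.el α v) ↔ Commute (Co.el α v) (h.chart.pt p c) from
    ⟨Commute.symm, Commute.symm⟩, h.sec_iff (Co.far α v hv) hp c, Co.sec α v hv p hp]
  generalize h4 p v = A
  revert c A; decide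

theorem el6_comm {x y : Fin 6 → K4} (hx : Shape x) (hy : Shape y) :
    Commute (Co.el6 x) (Co.el6 y) ↔ U62.herm x y = 0 := by
  have sw : ∀ u v : Fin 6 → K4, U62.herm u v = 0 → U62.herm v u = 0 := fun u v e => by
    rw [U62.herm_swap, e]; simp
  cases hx with
  | top =>
    cases hy with
    | top => simp [herm_emb, h4_zero_left]
    | near q d hq =>
      rw [el6_top, el6_near Co hq]
      simp [herm_emb, h4_zero_left, (h.chart.mem q d hq).2.2]
    | far β w hw =>
      rw [el6_top, el6_far]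
      simp [herm_emb, h4_zero_left, (Co.far β w hw).2.1]
  | near p c hp =>
    rw [el6_near Co hp]
    cases hy with
    | top =>
      rw [el6_top]
      simp [herm_emb, h4_zero_right, (h.chart.mem p c hp).2.2.symm]
    | near q d hq =>
      rw [el6_near Co hq, h.chart.comm p q c d hp hq]
      simp [herm_emb]
    | far β w hw =>
      rw [el6_far, near_far_iff Co hp c hw]
      simp [herm_emb]
  | far α v hv =>
    rw [el6_far]
    cases hy with
    | top =>
      rw [el6_top]
      simp only [herm_emb, h4_zero_right]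
      exact iff_of_false (fun e => (Co.far α v hv).2.1 e.symm) (by simp)
    | near q d hq =>
      rw [el6_near Co hq]
      refine ⟨fun e => sw _ _ ?_, fun e => ((near_far_iff Co hq d hv).2 ?_).symm⟩
      · have := (near_far_iff Co hq d hv).1 e.symm
        simpa [herm_emb] using this
      · simpa [herm_emb] using sw _ _ e
    | far β w hw =>
      rw [el6_far, Co.comm α v β w hv hw]
      simp [herm_emb, MRel]

theorem el6_surj {x : K} (hx : x ∈ comp D a) : ∃ y, Shape y ∧ Co.el6 y = x := by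
  by_cases hax : Commute a x
  · by_cases hxa : x = a
    · exact ⟨_, .top, hxa ▸ el6_top Co⟩
    · obtain ⟨p, c, hp, e⟩ := h.chart.surj x ⟨hx.1, hxa, hax⟩
      exact ⟨_, .near p c hp, by rw [el6_near Co hp, e]⟩
  · obtain ⟨α, v, hv, e⟩ := Co.surj x ⟨hx.1, hax, hx.2.resolve_left hax⟩
    exact ⟨_, .far α v hv, by rw [el6_far, e]⟩

theorem Shape.ne_zero {x : Fin 6 → K4} (hx : Shape x) : x ≠ 0 := by
  intro e
  have hp : pα x = 0 ∧ pv4 x = 0 ∧ pβ x = 0 := by
    subst e; refine ⟨?_, ?_, ?_⟩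
    · simp [pα]
    · funext k; fin_cases k <;> simp [pv4]
    · simp [pβ]
  cases hx with
  | top => simp [proj_emb] at hp
  | near p c h => simp [proj_emb, h.1] at hp
  | far α v h => simp [proj_emb] at hp

theorem Shape.iso {x : Fin 6 → K4} (hx : Shape x) : U62.herm x x = 0 := by
  cases hx with
  | top => simp [herm_emb, h4_zero_left]
  | near p c h => simp [herm_emb, h.2]
  | far α v h =>
    rw [herm_emb, ← show α + α * α = h4 v v from h]
    clear h; revert α; decide

/-- the member at a point -/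
noncomputable def Coord.pel (i : Fin 693) : K := Co.el6 (U62.pv i.1)

theorem pel_eq (i : Fin 693) : ∃ (l : K4) (y : Fin 6 → K4), l ≠ 0 ∧ Shape y ∧ U62.pv i.1 = l • y ∧ Co.pel i = Co.el6 y := by
  obtain ⟨l, y, hl, hy, e⟩ := exists_shape (U62.pv_ne i) (U62.pv_iso i)
  exact ⟨l, y, hl, hy, e, by rw [Coord.pel, e, el6_smul Co hy hl]⟩

theorem pel_mem (i : Fin 693) : Co.pel i ∈ comp D a := by
  obtain ⟨l, y, -, hy, -, e⟩ := pel_eq Co i
  exact e ▸ el6_mem Co hy

theorem herm_smul2 (l m : K4) (x y : Fin 6 → K4) :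
    U62.herm (l • x) (m • y) = l * (m * m) * U62.herm x y := by
  simp only [U62.herm, Cfsg.hermForm, Fin.sum_univ_six, Pi.smul_apply, smul_eq_mul, k4_pow_two]
  ring

theorem herm_smul_left (l : K4) (x y : Fin 6 → K4) : U62.herm (l • x) y = l * U62.herm x y := by
  simp only [U62.herm, Cfsg.hermForm, Fin.sum_univ_six, Pi.smul_apply, smul_eq_mul]
  ring

theorem herm_add_smul (l : K4) (x y z : Fin 6 → K4) :
    U62.herm (x + l • y) z = U62.herm x z + l * U62.herm y z := by
  simp only [U62.herm, Cfsg.hermForm, Fin.sum_univ_six, Pi.add_apply, Pi.smul_apply, smul_eq_mul]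
  ring

theorem pel_comm (i j : Fin 693) :
    Commute (Co.pel i) (Co.pel j) ↔ U62.herm (U62.pv i.1) (U62.pv j.1) = 0 := by
  obtain ⟨l, x, hl, hx, ex, e⟩ := pel_eq Co i
  obtain ⟨m, y, hm, hy, ey, e'⟩ := pel_eq Co j
  rw [e, e', el6_comm Co hx hy, ex, ey, herm_smul2]
  simp [hl, hm]

theorem pel_inj : Function.Injective Co.pel := by
  intro i j hij
  obtain ⟨l, x, hl, hx, ex, e⟩ := pel_eq Co i
  obtain ⟨m, y, hm, hy, ey, e'⟩ := pel_eq Co j
  obtain ⟨k, hk, ek⟩ := el6_inj Co hx hy (e.symm.trans (hij.trans e'))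
  have h1 := U62.ptV_smul i (m * k * l⁻¹) (mul_ne_zero (mul_ne_zero hm hk) (inv_ne_zero hl))
  rw [ex, smul_smul, mul_assoc, inv_mul_cancel₀ hl, mul_one, mul_smul, ← ek, ← ey] at h1
  have h2 := U62.ptV_smul j 1 one_ne_zero
  rw [one_smul, h1] at h2
  exact Fin.ext h2

theorem pel_surj {x : K} (hx : x ∈ comp D a) : ∃ i, Co.pel i = x := by
  obtain ⟨y, hy, rfl⟩ := el6_surj Co hx
  obtain ⟨hlt, c, hc, e⟩ := U62.cover y hy.ne_zero hy.iso
  obtain ⟨l, z, hl, hz, ez, e'⟩ := pel_eq Co ⟨_, hlt⟩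
  refine ⟨⟨_, hlt⟩, ?_⟩
  rw [e', ← el6_smul Co hz (mul_ne_zero hc hl), mul_smul, ← ez]
  exact congrArg _ e

theorem card_comp (Co : Coord h) : (comp D a).ncard = 693 := by
  have e : comp D a = Set.range Co.pel := Set.ext fun x =>
    ⟨fun hx => pel_surj Co hx, fun ⟨i, hi⟩ => hi ▸ pel_mem Co i⟩
  rw [e, Set.ncard_range_of_injective (pel_inj Co), Nat.card_eq_fintype_card, Fintype.card_fin]

theorem trans_herm (v : Fin 6 → K4) (hv : U62.herm v v = 0) (x y : Fin 6 → K4) :
    U62.herm (x + U62.herm x v • v) (y + U62.herm y v • v) = U62.herm x y := by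
  rw [← U62.trans_mulVec v hv, ← U62.trans_mulVec v hv]
  exact U62.herm_map _ x y

/-- members act on the component as the transvections -/
theorem pel_conj (i j : Fin 693) :
    Co.pel i * Co.pel j * (Co.pel i)⁻¹ =
      Co.pel (U62.σ (U62.trans (U62.pv i.1) (U62.pv_iso i)) j) := by
  set v := U62.pv i.1
  set τ := U62.σ (U62.trans v (U62.pv_iso i))
  have hτ : ∀ k, ∃ c : K4, c ≠ 0 ∧ c • U62.pv (τ k).1 =
      U62.pv k.1 + U62.herm (U62.pv k.1) v • v := fun k => by
    obtain ⟨-, c, hc, e⟩ := U62.image_cover (U62.trans v (U62.pv_iso i)) k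
    exact ⟨c, hc, by rw [← U62.trans_mulVec v (U62.pv_iso i)]; exact e⟩
  by_cases hc : Commute (Co.pel i) (Co.pel j)
  · rw [conj_fix hc]
    congr 1
    obtain ⟨c, hc0, e⟩ := hτ j
    have h0 : U62.herm (U62.pv j.1) v = 0 := by
      rw [U62.herm_swap, (pel_comm Co i j).1 hc]; simp
    rw [h0, zero_smul, add_zero] at e
    have h1 := U62.ptV_smul (τ j) c hc0
    have h2 := U62.ptV_smul j 1 one_ne_zero
    rw [e] at h1; rw [one_smul, h1] at h2
    exact (Fin.ext h2).symm
  set hi := h.rebase (pel_mem Co i).1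
  have hij : U62.herm (U62.pv j.1) v ≠ 0 := fun e => hc ((pel_comm Co i j).2 (by
    rw [U62.herm_swap, e]; simp))
  obtain ⟨c, hc0, ej⟩ := hτ j
  have hvv : U62.herm v v = 0 := U62.pv_iso i
  have hτv : U62.herm (U62.pv (τ j).1) v ≠ 0 := by
    intro e
    apply hij
    have h0 := congrArg (fun z => U62.herm z v) ej
    simp only [herm_add_smul, herm_smul_left, e, hvv, mul_zero, add_zero] at h0
    exact h0.symm
  have farOf : ∀ k, U62.herm (U62.pv k.1) v ≠ 0 → Far D (Co.pel i) (Co.pel k) := fun k hk => by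
    have hnc : ¬ Commute (Co.pel i) (Co.pel k) := fun e => hk (by
      rw [U62.herm_swap, (pel_comm Co i k).1 e]; simp)
    exact ⟨(pel_mem Co k).1, hnc, (h.rel_of (pel_mem Co i) (pel_mem Co k)).2.resolve_left hnc⟩
  have hsame : ∀ p, Iso p → hi.sec (Co.pel (τ j)) p = hi.sec (Co.pel j) p := by
    intro p hp
    refine ((hi.sec_iff (farOf _ hτv) hp _).1 ?_).symm
    have hm := hi.chart.mem p (hi.sec (Co.pel j) p) hp
    obtain ⟨k, hk⟩ := pel_surj Co (x := hi.chart.pt p (hi.sec (Co.pel j) p))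
      (h.rel_step (pel_mem Co i) hm.1 hm.2.2)
    have hjk : Commute (Co.pel j) (Co.pel k) := hk ▸ (hi.sec_iff (farOf j hij) hp _).2 rfl
    rw [← hk, pel_comm]
    have h1 : U62.herm (U62.pv k.1) v = 0 := by
      rw [U62.herm_swap, (pel_comm Co i k).1 (hk ▸ hm.2.2)]; simp
    have h2 := trans_herm v hvv (U62.pv j.1) (U62.pv k.1)
    rw [h1, zero_smul, add_zero, ← ej, (pel_comm Co j k).1 hjk, ← one_smul K4 (U62.pv k.1),
      herm_smul2, mul_eq_zero] at h2
    exact h2.resolve_left (by simp [hc0])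
  rcases hi.pair_section (farOf j hij) (farOf _ hτv) hsame with e | e
  · exfalso
    have := pel_inj Co e
    rw [this] at ej
    have h3 : U62.herm (U62.pv j.1) v • v = (c + 1) • U62.pv j.1 := by
      rw [add_smul, one_smul, ej, add_comm (U62.pv j.1), add_assoc]
      conv_rhs => rw [show U62.pv j.1 + U62.pv j.1 = 0 from funext fun _ => k4_two _]
      rw [add_zero]
    have h4 := congrArg (fun z => U62.herm z v) h3
    simp only [herm_smul_left, hvv, mul_zero] at h4
    by_cases hc1 : c + 1 = 0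
    · rw [hc1, zero_smul, smul_eq_zero] at h3
      exact U62.pv_ne i (h3.resolve_left hij)
    · exact hij ((mul_eq_zero.1 h4.symm).resolve_left hc1)
  · exact e.symm

section Generated

variable (D a)

/-- the subgroup generated by the component -/
abbrev gen : Subgroup K := Subgroup.closure (comp D a)

end Generated

theorem closure_comp_conj (g : ↥(gen D a)) : ∀ i, ∃ j, (g : K) * Co.pel i * (g : K)⁻¹ = Co.pel j := by
  obtain ⟨g, hg⟩ := g
  induction hg using Subgroup.closure_induction'' with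
  | mem x hx =>
    intro i
    obtain ⟨j, hj⟩ := pel_surj Co (h.comp_conj hx (pel_mem Co i))
    exact ⟨j, hj.symm⟩
  | inv_mem x hx =>
    intro i
    obtain ⟨j, hj⟩ := pel_surj Co (h.comp_conj hx (pel_mem Co i))
    refine ⟨j, ?_⟩
    show x⁻¹ * Co.pel i * x⁻¹⁻¹ = _
    rw [h.inv_eq hx.1]; exact hj.symm
  | one => exact fun i => ⟨i, by simp⟩
  | mul x y _ _ hx hy =>
    intro i
    obtain ⟨j, hj⟩ := hy i
    obtain ⟨k, hk⟩ := hx j
    exact ⟨k, by rw [← hk, ← hj]; group⟩

/-- the image of a point under conjugation -/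
noncomputable def pact (g : ↥(gen D a)) (i : Fin 693) : Fin 693 := (closure_comp_conj Co g i).choose

theorem pact_spec (g : ↥(gen D a)) (i : Fin 693) :
    (g : K) * Co.pel i * (g : K)⁻¹ = Co.pel (pact Co g i) := (closure_comp_conj Co g i).choose_spec

theorem pact_mul (g g' : ↥(gen D a)) (i : Fin 693) : pact Co (g * g') i = pact Co g (pact Co g' i) := by
  apply pel_inj Co
  rw [← pact_spec, ← pact_spec, ← pact_spec, Subgroup.coe_mul]
  group

theorem pact_one (i : Fin 693) : pact Co 1 i = i := by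
  apply pel_inj Co
  rw [← pact_spec]; simp

/-- the action of the generated group on the points -/
noncomputable def pperm : ↥(gen D a) →* Equiv.Perm (Fin 693) where
  toFun g :=
    { toFun := pact Co g
      invFun := pact Co g⁻¹
      left_inv := fun i => by rw [← pact_mul, inv_mul_cancel, pact_one]
      right_inv := fun i => by rw [← pact_mul, mul_inv_cancel, pact_one] }
  map_one' := Equiv.ext (pact_one Co)
  map_mul' g g' := Equiv.ext (pact_mul Co g g')

theorem pperm_pel (i : Fin 693) :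
    pperm Co ⟨Co.pel i, Subgroup.subset_closure (pel_mem Co i)⟩ =
      U62.σ (U62.trans (U62.pv i.1) (U62.pv_iso i)) :=
  Equiv.ext fun j => pel_inj Co ((pact_spec Co _ j).symm.trans (pel_conj Co i j))

theorem pperm_injective : Function.Injective (pperm Co) := by
  rw [injective_iff_map_eq_one]
  intro g hg
  have hfix : ∀ x ∈ comp D a, Commute (g : K) x := fun x hx => by
    obtain ⟨i, rfl⟩ := pel_surj Co hx
    have e := pact_spec Co g i
    rw [show pact Co g i = i from congrArg (fun f : Equiv.Perm (Fin 693) => f i) hg] at e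
    exact mul_inv_eq_iff_eq_mul.1 e
  rcases h.kernel g (hfix a ⟨h.mem, Or.inl (Commute.refl a)⟩)
      (fun x hx => hfix x ⟨hx.1, Or.inl hx.2.2⟩) with e | e
  · exact Subtype.ext e
  · obtain ⟨x, hx⟩ := h.exists_far
    exact absurd (e ▸ hfix x ⟨hx.1, Or.inr hx.2.2⟩) hx.2.1

theorem sigma_range :
    U62.σ.range = Subgroup.closure
      (Set.range fun i : Fin 693 => U62.σ (U62.trans (U62.pv i.1) (U62.pv_iso i))) := by
  have hF : Fintype.card K4 = 2 ^ 2 := by rw [K4.card_eq]; rfl
  refine le_antisymm ?_ ((Subgroup.closure_le _).2 ?_)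
  · rw [MonoidHom.range_eq_map, ← Unitary.suTransvections_closure (F := K4) (q := 2) (n := 6) hF
      (by norm_num) (by norm_num), MonoidHom.map_closure, Subgroup.closure_le]
    rintro _ ⟨A, ⟨v, c, hv, hc, hA⟩, rfl⟩
    have hc1 : c = 0 ∨ c = 1 := k4_real (by rwa [← k4_pow_two])
    have hmat : ∀ x, Matrix.mulVec (U62.matOf A) x = x + (c * U62.herm x v) • v := hA
    by_cases hv0 : c = 0 ∨ v = 0
    · have : U62.σ A = 1 := Equiv.ext fun k => U62.act_eq A k k 1 one_ne_zero (by
        rw [one_smul, hmat]; rcases hv0 with e | e <;> simp [e])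
      rw [this]; exact one_mem _
    push Not at hv0
    obtain ⟨hlt, l, hl, e⟩ := U62.cover v hv0.2 hv
    refine Subgroup.subset_closure ⟨⟨_, hlt⟩, Equiv.ext fun k => ?_⟩
    obtain ⟨-, d, hd, ed⟩ := U62.image_cover (U62.trans _ (U62.pv_iso ⟨_, hlt⟩)) k
    suffices hs : U62.act A k = U62.act (U62.trans _ (U62.pv_iso ⟨_, hlt⟩)) k from hs.symm
    refine U62.act_eq A k (U62.act (U62.trans _ (U62.pv_iso ⟨_, hlt⟩)) k) d hd ?_
    rw [show (U62.act (U62.trans _ (U62.pv_iso ⟨_, hlt⟩)) k).1 =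
      U62.ptV (Matrix.mulVec (U62.matOf (U62.trans _ (U62.pv_iso ⟨_, hlt⟩))) (U62.pv k.1)) by
        simp only [U62.act], ed]
    rw [U62.trans_mulVec, hmat, hc1.resolve_left hv0.1, one_mul]
    conv_rhs => rw [← e]
    rw [← one_smul K4 (U62.pv k.1), herm_smul2, one_smul, smul_smul]
    congr 2
    have key : ∀ l H : K4, l ≠ 0 → H = 1 * (l * l) * H * l := by decide
    exact key l _ hl
  · rintro _ ⟨i, rfl⟩
    exact ⟨_, rfl⟩

theorem sigmabar_injective : Function.Injective U62.σbar := by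
  have hF : Fintype.card K4 = 2 ^ 2 := by rw [K4.card_eq]; rfl
  have := Unitary.isSimpleGroup_PSU (F := K4) (q := 2) (n := 6) hF (by norm_num) (by norm_num)
  rcases U62.σbar.normal_ker.eq_bot_or_eq_top with e | e
  · exact (MonoidHom.ker_eq_bot_iff _).1 e
  exfalso
  set i : Fin 693 := 0
  obtain ⟨j, hj⟩ : ∃ j : Fin 693, U62.herm (U62.pv j.1) (U62.pv i.1) ≠ 0 := by
    obtain ⟨l, x, hl, hx, ex⟩ := exists_shape (U62.pv_ne i) (U62.pv_iso i)
    obtain ⟨y, hy, hne⟩ : ∃ y, Shape y ∧ U62.herm y x ≠ 0 := by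
      cases hx with
      | top => exact ⟨_, .far 0 0 (by simp [Valid, h4_zero_left]), by simp [herm_emb, h4_zero_left]⟩
      | near p c hp =>
        obtain ⟨q, hq, hne⟩ := exists_nonorth hp
        refine ⟨_, .near q 0 hq, ?_⟩
        simp only [herm_emb, zero_mul, mul_zero, zero_add, add_zero]
        exact fun e => hne (h4_orth_symm e)
      | far α v hv => exact ⟨_, .top, by simp [herm_emb, h4_zero_left]⟩
    obtain ⟨hlt, c, hc, e'⟩ := U62.cover y hy.ne_zero hy.iso
    refine ⟨⟨_, hlt⟩, fun e0 => hne ?_⟩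
    have h1 : y = c • U62.pv (U62.ptV y) := e'.symm
    have h2 : x = l⁻¹ • U62.pv i.1 := by rw [ex, smul_smul, inv_mul_cancel₀ hl, one_smul]
    rw [h1, h2, herm_smul2, e0, mul_zero]
  have h1 : U62.σbar (QuotientGroup.mk (U62.trans (U62.pv i.1) (U62.pv_iso i))) = 1 :=
    MonoidHom.mem_ker.1 (e ▸ Subgroup.mem_top _)
  obtain ⟨-, c, hc, e'⟩ := U62.image_cover (U62.trans _ (U62.pv_iso i)) j
  rw [show U62.ptV (Matrix.mulVec (U62.matOf (U62.trans _ (U62.pv_iso i))) (U62.pv j.1)) = j.1 from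
    congrArg (fun f : Equiv.Perm (Fin 693) => (f j).1) h1, U62.trans_mulVec] at e'
  apply hj
  have h2 := congrArg (fun z => U62.herm z (U62.pv j.1)) e'
  have hjj : U62.herm (U62.pv j.1) (U62.pv j.1) = 0 := U62.pv_iso j
  have hsw : U62.herm (U62.pv i.1) (U62.pv j.1) = U62.herm (U62.pv j.1) (U62.pv i.1) ^ 2 :=
    U62.herm_swap _ _
  simp only [herm_add_smul, herm_smul_left, hjj, mul_zero, zero_add, hsw] at h2
  rcases mul_eq_zero.1 h2.symm with h | h
  · exact h
  · exact pow_eq_zero_iff (two_ne_zero) |>.1 h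

include h in
/-- An isomorphism onto PSU(6, 2) taking the members to the transvections of their points. -/
theorem exists_iso :
    ∃ e : ↥(gen D a) ≃* Cfsg.PSU 6 K4 2, ∀ i, e ⟨Co.pel i, Subgroup.subset_closure (pel_mem Co i)⟩ =
      QuotientGroup.mk (U62.trans (U62.pv i.1) (U62.pv_iso i)) := by
  have hr : (pperm Co).range = U62.σbar.range := by
    have h1 : U62.σbar.range = U62.σ.range := le_antisymm
      (by rintro _ ⟨x, rfl⟩; induction x using QuotientGroup.induction_on with | _ z => exact ⟨z, rfl⟩)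
      (by rintro _ ⟨x, rfl⟩; exact ⟨QuotientGroup.mk x, rfl⟩)
    rw [h1, sigma_range, MonoidHom.range_eq_map,
      ← Subgroup.closure_closure_coe_preimage (k := comp D a), MonoidHom.map_closure]
    congr 1
    ext f
    constructor
    · rintro ⟨x, hx, rfl⟩
      obtain ⟨i, hi⟩ := pel_surj Co hx
      refine ⟨i, ?_⟩
      exact (pperm_pel Co i).symm.trans (congrArg _ (Subtype.ext hi))
    · rintro ⟨i, rfl⟩
      exact ⟨_, pel_mem Co i, pperm_pel Co i⟩
  refine ⟨(MonoidHom.ofInjective (pperm_injective Co)).trans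
    ((MulEquiv.subgroupCongr hr).trans (MonoidHom.ofInjective sigmabar_injective).symm), fun i => ?_⟩
  apply sigmabar_injective
  show U62.σbar ((MonoidHom.ofInjective sigmabar_injective).symm _) = _
  rw [← MonoidHom.ofInjective_apply (hf := sigmabar_injective), MulEquiv.apply_symm_apply]
  exact pperm_pel Co i

/-- The component is a copy of the transvections: enumeration, commuting, isomorphism. -/
theorem exists_model (h : Host D a) :
    ∃ el : Fin 693 → K, Function.Injective el ∧ Set.range el = comp D a ∧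
      (∀ i j, Commute (el i) (el j) ↔ U62.herm (U62.pv i.1) (U62.pv j.1) = 0) ∧
      ∃ e : ↥(gen D a) ≃* Cfsg.PSU 6 K4 2, ∀ i (hi : el i ∈ gen D a),
        e ⟨el i, hi⟩ = QuotientGroup.mk (U62.trans (U62.pv i.1) (U62.pv_iso i)) := by
  obtain ⟨h', x₀, hc⟩ := h.exists_centred
  obtain ⟨Co⟩ := h'.exists_coord hc
  obtain ⟨e, he⟩ := exists_iso Co
  exact ⟨Co.pel, pel_inj Co, Set.ext fun x =>
    ⟨fun ⟨i, hi⟩ => hi ▸ pel_mem Co i, fun hx => pel_surj Co hx⟩, pel_comm Co, e, fun i _ => he i⟩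

theorem main (h : Host D a) : Conclusion D a := by
  obtain ⟨h', x₀, hc⟩ := h.exists_centred
  obtain ⟨Co⟩ := h'.exists_coord hc
  exact ⟨fun x hx y hy hxy => h.rel_step hx hy hxy, card_comp Co,
    fun x hx y hy hxy => h.braid_comp hx hy hxy, ⟨(exists_iso Co).choose⟩⟩

end Cfsg.Agent.Lib.U62Recog47
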