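import Cfsg.Agent.Lib.U62Recog47.Defs
import Cfsg.Agent.Lib.U62Recog47.Data

/-!
Recognition of PSU(6, 2): the four-dimensional hermitian space over four elements, its forty-five
points and the few facts about them that the recognition uses, by evaluation on packed vectors.

Owner: helper47.
-/

set_option autoImplicit false
set_option maxRecDepth 20000

namespace Cfsg.Agent.Lib.U62Recog47

open Cfsg.Agent.Lib.G24

theorem k4_two (x : K4) : x + x = 0 := by revert x; decide
theorem k4_sq_add (x y : K4) : (x + y) * (x + y) = x * x + y * y := by revert x y; decide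
theorem k4_conj_conj (x : K4) : x * x * (x * x) = x := by revert x; decide
theorem k4_real {x : K4} (h : x + x * x = 0) : x = 0 ∨ x = 1 := by revert x; decide

theorem h4_add_left (u v w : V4) : h4 (u + v) w = h4 u w + h4 v w := by
  simp only [h4, Pi.add_apply]; ring

theorem h4_add_right (u v w : V4) : h4 u (v + w) = h4 u v + h4 u w := by
  simp only [h4, Pi.add_apply, k4_sq_add]; ring

theorem h4_smul_left (l : K4) (u w : V4) : h4 (l • u) w = l * h4 u w := by
  simp only [h4, Pi.smul_apply, smul_eq_mul]; ring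

theorem h4_smul_right (l : K4) (u w : V4) : h4 u (l • w) = l * l * h4 u w := by
  simp only [h4, Pi.smul_apply, smul_eq_mul]; ring

theorem h4_swap (u w : V4) : h4 w u = h4 u w * h4 u w := by
  simp only [h4, k4_sq_add]
  linear_combination -(u 0 * u 0) * k4_conj_conj (w 0) - (u 1 * u 1) * k4_conj_conj (w 1)
    - (u 2 * u 2) * k4_conj_conj (w 2) - (u 3 * u 3) * k4_conj_conj (w 3)

theorem h4_zero_right (u : V4) : h4 u 0 = 0 := by simp [h4]
theorem h4_zero_left (u : V4) : h4 0 u = 0 := by simp [h4]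

theorem h4_orth_symm {u w : V4} (h : h4 u w = 0) : h4 w u = 0 := by rw [h4_swap, h, mul_zero]

theorem vadd_self (u : V4) : u + u = 0 := funext fun _ => k4_two _

theorem Iso.smul {p : V4} (h : Iso p) {l : K4} (hl : l ≠ 0) : Iso (l • p) :=
  ⟨smul_ne_zero hl h.1, by rw [h4_smul_left, h4_smul_right, h.2, mul_zero, mul_zero]⟩

/-- the scalar with a given number -/
def dec (n : Nat) : K4 :=
  match n with
  | 1 => .e | 2 => .w | 3 => .v | _ => .z

/-- the number of a scalar -/
def enc : K4 → Nat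
  | .z => 0 | .e => 1 | .w => 2 | .v => 3

/-- a coordinate of a packed vector -/
def dig (n k : Nat) : Nat := n >>> (2 * k) &&& 3

/-- the vector with a given number -/
def vec (n : Nat) : V4 := fun k => dec (dig n k.1)

/-- the number of a vector -/
def code (p : V4) : Nat := enc (p 0) + 4 * enc (p 1) + 16 * enc (p 2) + 64 * enc (p 3)

/-- one term of the form on numbers -/
def hDig (a b k : Nat) : Nat := tabH >>> (2 * (4 * dig a k + dig b k)) &&& 3

/-- the form on numbers -/
def hN (a b : Nat) : Nat := hDig a b 0 ^^^ hDig a b 1 ^^^ hDig a b 2 ^^^ hDig a b 3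

/-- one coordinate of a multiple -/
def mDig (l n k : Nat) : Nat := tabM >>> (2 * (4 * l + dig n k)) &&& 3

/-- multiples on numbers -/
def smN (l n : Nat) : Nat := mDig l n 0 + 4 * mDig l n 1 + 16 * mDig l n 2 + 64 * mDig l n 3

theorem dig_lt (n k : Nat) : dig n k < 4 := Nat.lt_succ_of_le Nat.and_le_right

theorem dec_facts : ∀ a < 4, ∀ b < 4, dec (a ^^^ b) = dec a + dec b ∧
    dec (tabH >>> (2 * (4 * a + b)) &&& 3) = dec a * (dec b * dec b) ∧
    dec (tabM >>> (2 * (4 * a + b)) &&& 3) = dec a * dec b ∧ (dec a = 0 → a = 0) := by decide +kernel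

theorem enc_spec (x : K4) : enc x < 4 ∧ dec (enc x) = x := by cases x <;> decide

theorem vec_xor (a b : Nat) : vec (a ^^^ b) = vec a + vec b := by
  funext k
  show dec (dig (a ^^^ b) k.1) = dec (dig a k.1) + dec (dig b k.1)
  rw [← (dec_facts _ (dig_lt a k.1) _ (dig_lt b k.1)).1, dig, dig, dig, Nat.shiftRight_xor_distrib,
    Nat.and_xor_distrib_right]

theorem h4_vec (a b : Nat) : h4 (vec a) (vec b) = dec (hN a b) := by
  have hd : ∀ k, hDig a b k < 4 := fun k => Nat.lt_succ_of_le Nat.and_le_right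
  have hx : ∀ x y : Nat, x < 4 → y < 4 → x ^^^ y < 4 := fun x y hx hy =>
    Nat.xor_lt_two_pow (n := 2) hx hy
  have e : ∀ k, dec (hDig a b k) = dec (dig a k) * (dec (dig b k) * dec (dig b k)) := fun k =>
    (dec_facts _ (dig_lt a k) _ (dig_lt b k)).2.1
  rw [hN, (dec_facts _ (hx _ _ (hx _ _ (hd 0) (hd 1)) (hd 2)) _ (hd 3)).1,
    (dec_facts _ (hx _ _ (hd 0) (hd 1)) _ (hd 2)).1, (dec_facts _ (hd 0) _ (hd 1)).1, e, e, e, e]
  rfl

theorem vec_smN {l : Nat} (hl : l < 4) (n : Nat) : vec (smN l n) = dec l • vec n := by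
  have hd : ∀ k, mDig l n k < 4 := fun k => Nat.lt_succ_of_le Nat.and_le_right
  have e : ∀ k, dec (mDig l n k) = dec l * dec (dig n k) := fun k =>
    (dec_facts _ hl _ (dig_lt n k)).2.2.1
  have h0 := hd 0; have h1 := hd 1; have h2 := hd 2; have h3 := hd 3
  funext k
  show dec (dig (smN l n) k.1) = dec l * dec (dig n k.1)
  rw [← e k.1]
  congr 1
  rw [dig, show (3 : Nat) = 2 ^ 2 - 1 from rfl, Nat.and_two_pow_sub_one_eq_mod, Nat.shiftRight_eq_div_pow]
  fin_cases k <;> simp [smN] <;> omega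

theorem code_spec (p : V4) : code p < 256 ∧ vec (code p) = p := by
  have h0 := enc_spec (p 0); have h1 := enc_spec (p 1)
  have h2 := enc_spec (p 2); have h3 := enc_spec (p 3)
  refine ⟨by unfold code; omega, ?_⟩
  funext k
  show dec (dig (code p) k.1) = p k
  rw [dig, show (3 : Nat) = 2 ^ 2 - 1 from rfl, Nat.and_two_pow_sub_one_eq_mod, Nat.shiftRight_eq_div_pow]
  rw [← (enc_spec (p k)).2]
  congr 1
  fin_cases k <;> simp [code] <;> omega

theorem exists_code (p : V4) : ∃ n < 256, vec n = p := ⟨code p, code_spec p⟩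

theorem vec_zero : vec 0 = 0 := funext fun k => by simp [vec, dig]; rfl

theorem vec_inj_check : ∀ n < 256, code (vec n) = n := by decide +kernel

theorem vec_eq_zero {n : Nat} (hn : n < 256) (h : vec n = 0) : n = 0 := by
  rw [← vec_inj_check n hn, h, ← vec_zero]; exact vec_inj_check 0 (by norm_num)

theorem dec_zero_iff {a : Nat} (ha : a < 4) : dec a = 0 ↔ a = 0 :=
  ⟨(dec_facts a ha 0 (by norm_num)).2.2.2, fun h => h ▸ rfl⟩

theorem hN_lt (a b : Nat) : hN a b < 4 :=
  Nat.xor_lt_two_pow (n := 2) (Nat.xor_lt_two_pow (n := 2) (Nat.xor_lt_two_pow (n := 2)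
    (Nat.lt_succ_of_le Nat.and_le_right) (Nat.lt_succ_of_le Nat.and_le_right))
      (Nat.lt_succ_of_le Nat.and_le_right)) (Nat.lt_succ_of_le Nat.and_le_right)

theorem h4_vec_zero_iff (a b : Nat) : h4 (vec a) (vec b) = 0 ↔ hN a b = 0 := by
  rw [h4_vec, dec_zero_iff (hN_lt a b)]

theorem isoL_ok : (List.range 256).all (fun n =>
    (isoL.contains n) == (!(n == 0) && hN n n == 0)) = true := by decide +kernel

theorem mem_isoL {n : Nat} (hn : n < 256) : n ∈ isoL ↔ n ≠ 0 ∧ hN n n = 0 := by
  have h := List.all_eq_true.1 isoL_ok n (List.mem_range.2 hn)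
  simp only [beq_iff_eq] at h
  rw [← List.contains_iff_mem, h]
  simp

theorem isoL_lt : ∀ n ∈ isoL, n < 256 := by decide +kernel

theorem iso_vec {n : Nat} (h : n ∈ isoL) : Iso (vec n) :=
  ⟨fun e => ((mem_isoL (isoL_lt n h)).1 h).1 (vec_eq_zero (isoL_lt n h) e),
    (h4_vec_zero_iff n n).2 ((mem_isoL (isoL_lt n h)).1 h).2⟩

theorem exists_iso_code {p : V4} (h : Iso p) : ∃ n ∈ isoL, vec n = p := by
  obtain ⟨n, hn, rfl⟩ := exists_code p
  exact ⟨n, (mem_isoL hn).2 ⟨fun e => h.1 (e ▸ vec_zero), (h4_vec_zero_iff n n).1 h.2⟩, rfl⟩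

theorem rep_iso : ∀ n ∈ repL, n ∈ isoL := by decide +kernel

theorem rep_cover_ok : isoL.all (fun n => repL.any fun r => [1, 2, 3].any fun l =>
    smN l r == n) = true := by decide +kernel

theorem exists_rep {p : V4} (h : Iso p) : ∃ r ∈ repL, ∃ l : K4, l ≠ 0 ∧ p = l • vec r := by
  obtain ⟨n, hn, rfl⟩ := exists_iso_code h
  have := List.all_eq_true.1 rep_cover_ok n hn
  simp only [List.any_eq_true, beq_iff_eq] at this
  obtain ⟨r, hr, l, hl, rfl⟩ := this
  have hl4 : 0 < l ∧ l < 4 := by fin_cases hl <;> norm_num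
  exact ⟨r, hr, dec l, fun e => by have := (dec_zero_iff hl4.2).1 e; omega, vec_smN hl4.2 r⟩

theorem rep_unique_ok : repL.all (fun r => repL.all fun r' => [1, 2, 3].all fun l =>
    !(smN l r == r') || r == r') = true := by decide +kernel

theorem code_smN {r : Nat} (l : K4) : vec (smN (enc l) r) = l • vec r := by
  rw [vec_smN (enc_spec l).1, (enc_spec l).2]

theorem smN_lt (l n : Nat) : smN l n < 256 := by
  have hd : ∀ k, mDig l n k < 4 := fun k => Nat.lt_succ_of_le Nat.and_le_right
  have h0 := hd 0; have h1 := hd 1; have h2 := hd 2; have h3 := hd 3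
  unfold smN; omega

theorem vec_inj {a b : Nat} (ha : a < 256) (hb : b < 256) (h : vec a = vec b) : a = b := by
  rw [← vec_inj_check a ha, h, vec_inj_check b hb]

theorem enc_mem {l : K4} (hl : l ≠ 0) : enc l ∈ [1, 2, 3] := by
  revert hl; cases l <;> decide

theorem rep_unique {r r' : Nat} (hr : r ∈ repL) (hr' : r' ∈ repL) {l : K4} (hl : l ≠ 0)
    (h : vec r' = l • vec r) : r = r' := by
  have e : smN (enc l) r = r' := vec_inj (smN_lt _ _) (isoL_lt _ (rep_iso _ hr'))
    ((code_smN l).trans h.symm)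
  have := List.all_eq_true.1 (List.all_eq_true.1 (List.all_eq_true.1 rep_unique_ok r hr) r' hr')
    (enc l) (enc_mem hl)
  simpa [e] using this

/-- a bit of a mask -/
def bitB (m i : Nat) : Bool := m >>> i &&& 1 == 1

theorem bitB_eq (m i : Nat) : bitB m i = m.testBit i := by
  simp only [bitB, Nat.testBit, Nat.and_comm (m >>> i) 1, Nat.one_and_eq_mod_two]
  rcases Nat.mod_two_eq_zero_or_one (m >>> i) with h | h <;> simp [h]

/-- the forty-five points -/
abbrev Pt : Type := Fin 45

/-- the representative of a point -/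
def rn (i : Nat) : Nat := repL.getD i 0

/-- the representing vector of a point -/
def rv (i : Pt) : V4 := vec (rn i.1)

/-- orthogonality of two points as a bit -/
def orthB (i j : Nat) : Bool := bitB (orthL.getD i 0) j

theorem orth_ok : (List.range 45).all (fun i => (List.range 45).all fun j =>
    orthB i j == (hN (rn i) (rn j) == 0)) = true := by decide +kernel

theorem orth_iff (i j : Pt) : h4 (rv i) (rv j) = 0 ↔ orthB i.1 j.1 = true := by
  have h := List.all_eq_true.1 (List.all_eq_true.1 orth_ok i.1 (List.mem_range.2 i.2)) j.1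
    (List.mem_range.2 j.2)
  simp only [beq_iff_eq] at h
  rw [rv, rv, h4_vec_zero_iff, h, beq_iff_eq]

theorem rn_mem (i : Pt) : rn i.1 ∈ repL := by
  rw [rn, List.getD_eq_getElem _ _ (show i.1 < repL.length from i.2)]
  exact List.getElem_mem _

theorem rv_iso (i : Pt) : Iso (rv i) := iso_vec (rep_iso _ (rn_mem i))

theorem exists_pt {p : V4} (h : Iso p) : ∃ i : Pt, ∃ l : K4, l ≠ 0 ∧ p = l • rv i := by
  obtain ⟨r, hr, l, hl, rfl⟩ := exists_rep h
  obtain ⟨i, hi, rfl⟩ := List.mem_iff_getElem.1 hr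
  exact ⟨⟨i, hi⟩, l, hl, by rw [rv, rn, List.getD_eq_getElem _ _ hi]⟩

theorem repL_nodup : repL.Nodup := by decide +kernel

theorem pt_unique {i j : Pt} {l : K4} (hl : l ≠ 0) (h : rv j = l • rv i) : i = j ∧ l = 1 := by
  have e := rep_unique (rn_mem i) (rn_mem j) hl h
  have hij : i = j := Fin.ext <| by
    rw [rn, rn, List.getD_eq_getElem _ _ (show i.1 < repL.length from i.2),
      List.getD_eq_getElem _ _ (show j.1 < repL.length from j.2)] at e
    exact (List.Nodup.getElem_inj_iff repL_nodup).1 e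
  refine ⟨hij, ?_⟩
  subst hij
  by_contra h1
  have h2 : (l + 1) • rv i = 0 := by rw [add_smul, one_smul, ← h, vadd_self]
  rcases smul_eq_zero.1 h2 with h3 | h3
  · exact h1 (by rw [← add_zero l, ← k4_two (1 : K4), ← add_assoc, h3, zero_add])
  · exact (rv_iso i).1 h3

theorem orth_smul {i j : Pt} {l m : K4} (hl : l ≠ 0) (hm : m ≠ 0) :
    h4 (l • rv i) (m • rv j) = 0 ↔ orthB i.1 j.1 = true := by
  rw [h4_smul_left, h4_smul_right, mul_eq_zero, mul_eq_zero, orth_iff]
  simp [hl, hm]

theorem common_card_ok : (List.range 45).all (fun i => (List.range 45).all fun j =>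
    orthB i j || ((List.range 45).filter fun k => orthB i k && orthB j k).length == 3) = true := by
  decide +kernel

theorem around_card_ok : (List.range 45).all (fun i =>
    ((List.range 45).filter fun k => !(k == i) && orthB i k).length == 12) = true := by decide +kernel

theorem card_pt_filter (P : Nat → Bool) :
    (Finset.univ.filter fun k : Pt => P k.1 = true).card = ((List.range 45).filter P).length := by
  rw [← Finset.card_map Fin.valEmbedding, ← List.toFinset_card_of_nodup (List.nodup_range.filter _)]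
  congr 1
  ext x
  simp only [Finset.mem_map, Finset.mem_filter, Finset.mem_univ, true_and, List.mem_toFinset,
    List.mem_filter, List.mem_range, Fin.valEmbedding_apply]
  exact ⟨fun ⟨k, hk, e⟩ => e ▸ ⟨k.2, hk⟩, fun h => ⟨⟨x, h.1⟩, h.2, rfl⟩⟩

theorem common_card {i j : Pt} (h : orthB i.1 j.1 = false) :
    (Finset.univ.filter fun k : Pt => (orthB i.1 k.1 && orthB j.1 k.1) = true).card = 3 := by
  rw [card_pt_filter (fun k => orthB i.1 k && orthB j.1 k)]
  simpa [h] using List.all_eq_true.1 (List.all_eq_true.1 common_card_ok i.1 (List.mem_range.2 i.2))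
    j.1 (List.mem_range.2 j.2)

theorem around_card (i : Pt) :
    (Finset.univ.filter fun k : Pt => (!(k.1 == i.1) && orthB i.1 k.1) = true).card = 12 := by
  rw [card_pt_filter (fun k => !(k == i.1) && orthB i.1 k)]
  simpa using List.all_eq_true.1 around_card_ok i.1 (List.mem_range.2 i.2)

theorem exists_orth_ok : (List.range 45).all (fun i => (List.range 45).all fun j =>
    !(orthL.getD i 0 &&& orthL.getD j 0 == 0)) = true := by decide +kernel

theorem orthB_symm (i j : Pt) : orthB i.1 j.1 = true ↔ orthB j.1 i.1 = true := by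
  rw [← orth_iff, ← orth_iff]; exact ⟨h4_orth_symm, h4_orth_symm⟩

theorem orth_row_lt : orthL.all (fun m => m < 2 ^ 45) = true := by decide +kernel

theorem exists_orth {p r : V4} (hp : Iso p) (hr : Iso r) :
    ∃ q, Iso q ∧ h4 p q = 0 ∧ h4 q r = 0 := by
  obtain ⟨i, l, hl, rfl⟩ := exists_pt hp
  obtain ⟨j, m, hm, rfl⟩ := exists_pt hr
  have h := List.all_eq_true.1 (List.all_eq_true.1 exists_orth_ok i.1 (List.mem_range.2 i.2))
    j.1 (List.mem_range.2 j.2)
  simp only [Bool.not_eq_true', beq_eq_false_iff_ne] at h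
  obtain ⟨k, hk⟩ := Nat.exists_testBit_of_ne_zero h
  rw [Nat.testBit_and, Bool.and_eq_true] at hk
  have hlt : k < 45 := by
    by_contra hge
    have hrow : orthL.getD i.1 0 < 2 ^ 45 := of_decide_eq_true (List.all_eq_true.1 orth_row_lt _ (by
      rw [List.getD_eq_getElem _ _ (show i.1 < orthL.length from i.2)]; exact List.getElem_mem _))
    rw [Nat.testBit_lt_two_pow (hrow.trans_le (Nat.pow_le_pow_right two_pos (not_lt.1 hge)))] at hk
    exact Bool.noConfusion hk.1
  refine ⟨rv ⟨k, hlt⟩, rv_iso _, ?_, ?_⟩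
  · rw [← one_smul K4 (rv ⟨k, hlt⟩)]
    exact (orth_smul hl one_ne_zero).2 (by rw [orthB, bitB_eq]; exact hk.1)
  · rw [← one_smul K4 (rv ⟨k, hlt⟩)]
    exact (orth_smul one_ne_zero hm).2 ((orthB_symm _ _).1 (by rw [orthB, bitB_eq]; exact hk.2))

theorem exists_nonorth_ok : isoL.all (fun p => isoL.any fun q => !(hN p q == 0)) = true := by
  decide +kernel

theorem exists_nonorth {p : V4} (hp : Iso p) : ∃ q, Iso q ∧ h4 p q ≠ 0 := by
  obtain ⟨a, ha, rfl⟩ := exists_iso_code hp
  have := List.all_eq_true.1 exists_nonorth_ok a ha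
  simp only [List.any_eq_true, Bool.not_eq_true', beq_eq_false_iff_ne] at this
  obtain ⟨c, hc, h1⟩ := this
  exact ⟨vec c, iso_vec hc, fun e => h1 ((h4_vec_zero_iff _ _).1 e)⟩

/-- the third point on a hyperbolic line, on numbers -/
def thirdN (i j : Nat) : Nat := rn j ^^^ smN (hN (rn j) (rn i)) (rn i)

theorem third_ok : (List.range 45).all (fun i => (List.range 45).all fun j => orthB i j ||
    (List.range 45).all fun k =>
      !(orthL.getD i 0 &&& orthL.getD j 0 &&& orthL.getD k 0 == orthL.getD i 0 &&& orthL.getD j 0) ||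
        k == i || k == j || [1, 2, 3].any fun l => smN l (rn k) == thirdN i j) = true := by
  decide +kernel

/-- Three points with the same common perp as two lie on their hyperbolic line. -/
theorem third_point {i j k : Pt} (hij : orthB i.1 j.1 = false)
    (h : ∀ s : Pt, orthB i.1 s.1 = true → orthB j.1 s.1 = true → orthB k.1 s.1 = true) :
    k = i ∨ k = j ∨ ∃ l : K4, l ≠ 0 ∧ rv j + h4 (rv j) (rv i) • rv i = l • rv k := by
  have hm : orthL.getD i.1 0 &&& orthL.getD j.1 0 &&& orthL.getD k.1 0 =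
      orthL.getD i.1 0 &&& orthL.getD j.1 0 := by
    refine Nat.eq_of_testBit_eq fun s => ?_
    rw [Nat.testBit_and]
    by_cases hs : s < 45
    · rw [Bool.and_eq_left_iff_imp, Nat.testBit_and, Bool.and_eq_true]
      rintro ⟨h1, h2⟩
      have := h ⟨s, hs⟩ (by rw [orthB, bitB_eq]; exact h1) (by rw [orthB, bitB_eq]; exact h2)
      rwa [orthB, bitB_eq] at this
    · have hrow : orthL.getD i.1 0 < 2 ^ 45 := of_decide_eq_true (List.all_eq_true.1 orth_row_lt _ (by
        rw [List.getD_eq_getElem _ _ (show i.1 < orthL.length from i.2)]; exact List.getElem_mem _))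
      rw [Nat.testBit_and,
        Nat.testBit_lt_two_pow (hrow.trans_le (Nat.pow_le_pow_right two_pos (not_lt.1 hs)))]
      simp
  have := List.all_eq_true.1 (List.all_eq_true.1 third_ok i.1 (List.mem_range.2 i.2))
    j.1 (List.mem_range.2 j.2)
  simp only [hij, Bool.false_or, List.all_eq_true] at this
  have h2 := this k.1 (List.mem_range.2 k.2)
  simp only [hm, beq_self_eq_true, Bool.not_true, Bool.false_or, Bool.or_eq_true, beq_iff_eq,
    List.any_eq_true] at h2
  rcases h2 with (e | e) | ⟨l, hl, e⟩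
  · exact Or.inl (Fin.ext e)
  · exact Or.inr (Or.inl (Fin.ext e))
  · have hl4 : 0 < l ∧ l < 4 := by fin_cases hl <;> norm_num
    refine Or.inr (Or.inr ⟨dec l, fun e0 => by have := (dec_zero_iff hl4.2).1 e0; omega, ?_⟩)
    rw [rv, rv, rv, ← vec_smN hl4.2, e, thirdN, vec_xor, vec_smN (hN_lt _ _), h4_vec]

theorem span_ok : repL.all (fun u => (List.range 256).all fun v =>
    repL.any (fun p => hN p u == 0 && !(hN p v == 0)) ||
      [0, 1, 2, 3].any fun l => smN l u == v) = true := by decide +kernel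

theorem orth_span {u v : V4} (hu : Iso u) (h : ∀ p, Iso p → h4 p u = 0 → h4 p v = 0) :
    ∃ l : K4, v = l • u := by
  obtain ⟨r, hr, l, hl, rfl⟩ := exists_rep hu
  obtain ⟨n, hn, rfl⟩ := exists_code v
  have := List.all_eq_true.1 (List.all_eq_true.1 span_ok r hr) n (List.mem_range.2 hn)
  simp only [Bool.or_eq_true, List.any_eq_true, Bool.and_eq_true, Bool.not_eq_true',
    beq_iff_eq, beq_eq_false_iff_ne] at this
  rcases this with ⟨p, hp, h1, h2⟩ | ⟨m, hm, e⟩
  · refine absurd ((h4_vec_zero_iff _ _).1 (h (vec p) (iso_vec (rep_iso _ hp)) ?_)) h2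
    rw [h4_smul_right, (h4_vec_zero_iff _ _).2 h1, mul_zero]
  · refine ⟨dec m * l⁻¹, ?_⟩
    have hm4 : m < 4 := by fin_cases hm <;> norm_num
    rw [← e, vec_smN hm4, smul_smul, mul_assoc, inv_mul_cancel₀ hl, mul_one]

theorem nondeg_ok : (List.range 256).all (fun v =>
    v == 0 || repL.any fun p => !(hN p v == 0)) = true := by decide +kernel

theorem nondeg {v : V4} (h : ∀ p, Iso p → h4 p v = 0) : v = 0 := by
  obtain ⟨n, hn, rfl⟩ := exists_code v
  have := List.all_eq_true.1 nondeg_ok n (List.mem_range.2 hn)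
  simp only [Bool.or_eq_true, List.any_eq_true, Bool.not_eq_true', beq_iff_eq,
    beq_eq_false_iff_ne] at this
  rcases this with rfl | ⟨p, hp, h1⟩
  · exact vec_zero
  · exact absurd ((h4_vec_zero_iff _ _).1 (h _ (iso_vec (rep_iso _ hp)))) h1

/-- the check of one derivation against those before it -/
def genStep (done : List Nat) (e : Nat × Nat × Nat × Nat) : Bool :=
  (e.2.1 == 0 && basL.contains e.1) ||
  (e.2.1 == 1 && done.contains e.2.2.1 && [1, 2, 3].contains e.2.2.2 &&
    smN e.2.2.2 e.2.2.1 == e.1) ||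
  (e.2.1 == 2 && done.contains e.2.2.1 && done.contains e.2.2.2 &&
    hN e.2.2.1 e.2.2.2 == 0 && e.2.2.1 ^^^ e.2.2.2 == e.1)

/-- the check of a list of derivations -/
def genCheck : List (Nat × Nat × Nat × Nat) → List Nat → Bool
  | [], done => isoL.all fun n => done.contains n
  | e :: rest, done => isoL.contains e.1 && genStep done e && genCheck rest (e.1 :: done)

theorem gen_ok : genCheck genL [] = true := by decide +kernel

theorem gen_induction (P : Nat → Prop) (hb : ∀ b ∈ basL, P b)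
    (hs : ∀ n ∈ isoL, P n → ∀ l ∈ [1, 2, 3], smN l n ∈ isoL → P (smN l n))
    (ha : ∀ p ∈ isoL, ∀ q ∈ isoL, P p → P q → hN p q = 0 → (p ^^^ q) ∈ isoL → P (p ^^^ q)) :
    ∀ n ∈ isoL, P n := by
  suffices H : ∀ L done, (∀ n ∈ done, n ∈ isoL ∧ P n) → genCheck L done = true → ∀ n ∈ isoL, P n from
    H genL [] (by simp) gen_ok
  intro L
  induction L with
  | nil =>
    intro done hdone h n hn
    simp only [genCheck, List.all_eq_true, List.contains_iff_mem] at h
    exact (hdone n (h n hn)).2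
  | cons e rest ih =>
    intro done hdone h
    simp only [genCheck, genStep, Bool.and_eq_true, Bool.or_eq_true, beq_iff_eq,
      List.contains_iff_mem] at h
    obtain ⟨⟨hiso, hstep⟩, hrest⟩ := h
    refine ih _ (fun n hn => ?_) hrest
    rcases List.mem_cons.1 hn with rfl | hn
    · refine ⟨hiso, ?_⟩
      rcases hstep with (⟨-, h⟩ | ⟨⟨⟨-, hp⟩, hl⟩, e'⟩) | ⟨⟨⟨⟨-, hp⟩, hq⟩, h0⟩, e'⟩
      · exact hb _ h
      · rw [← e'] at hiso ⊢
        exact hs _ (hdone _ hp).1 (hdone _ hp).2 _ hl hiso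
      · rw [← e'] at hiso ⊢
        exact ha _ (hdone _ hp).1 _ (hdone _ hq).1 (hdone _ hp).2 (hdone _ hq).2 h0 hiso
    · exact hdone n hn

theorem exists_dual (f : Nat → K4) : ∃ w : V4, ∀ b ∈ basL, h4 (vec b) w = f b := by
  refine ⟨(f 160 * f 160) • vec 34 + (f 89 * f 89) • vec 255 + (f 204 * f 204) • vec 167 +
    (f 221 * f 221) • vec 254, fun b hb => ?_⟩
  simp only [basL, List.mem_cons, List.not_mem_nil, or_false] at hb
  simp only [h4_add_right, h4_smul_right, h4_vec, k4_conj_conj]
  rcases hb with rfl | rfl | rfl | rfl <;>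
    simp [show hN 160 34 = 1 by decide, show hN 89 34 = 0 by decide, show hN 204 34 = 0 by decide,
      show hN 221 34 = 0 by decide, show hN 160 255 = 0 by decide, show hN 89 255 = 1 by decide,
      show hN 204 255 = 0 by decide, show hN 221 255 = 0 by decide, show hN 160 167 = 0 by decide,
      show hN 89 167 = 0 by decide, show hN 204 167 = 1 by decide, show hN 221 167 = 0 by decide,
      show hN 160 254 = 0 by decide, show hN 89 254 = 0 by decide, show hN 204 254 = 0 by decide,
      show hN 221 254 = 1 by decide, show dec 1 = (1 : K4) from rfl, show dec 0 = (0 : K4) from rfl]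

/-- Homogeneous functions on isotropic vectors additive on orthogonal pairs are given by the form. -/
theorem exists_vector (f : V4 → K4) (hs : ∀ p l, Iso p → l ≠ 0 → f (l • p) = l * f p)
    (ha : ∀ p q, Iso p → Iso q → h4 p q = 0 → Iso (p + q) → f (p + q) = f p + f q) :
    ∃ w : V4, ∀ p, Iso p → f p = h4 p w := by
  obtain ⟨w, hw⟩ := exists_dual fun b => f (vec b)
  refine ⟨w, fun p hp => ?_⟩
  obtain ⟨n, hn, rfl⟩ := exists_iso_code hp
  refine (gen_induction (fun n => h4 (vec n) w = f (vec n)) hw ?_ ?_ n hn).symm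
  · intro n hn e l hl _
    have hl4 : 0 < l ∧ l < 4 := by fin_cases hl <;> norm_num
    rw [vec_smN hl4.2, h4_smul_left, e, hs _ _ (iso_vec hn) fun e => by
      have := (dec_zero_iff hl4.2).1 e; omega]
  · intro p hp q hq ep eq h0 hiso
    have h' := iso_vec hiso
    rw [vec_xor] at h' ⊢
    rw [h4_add_left, ep, eq, ha _ _ (iso_vec hp) (iso_vec hq) ((h4_vec_zero_iff _ _).2 h0) h']

/-- the neighbour mask of a vector -/
def nbAt (v : Nat) : Nat := nbL.getD v 0

theorem isoM_ok : (List.range 256).all (fun u => bitB isoM u == isoL.contains u) = true := by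
  decide +kernel

theorem nb_ok : (List.range 256).all (fun v => (List.range 256).all fun u =>
    bitB (nbAt v) u == bitB isoM (u ^^^ v)) = true := by decide +kernel

theorem nb_lt : nbL.all (fun m => m < 2 ^ 256) = true := by decide +kernel

theorem nbAt_lt {v : Nat} (hv : v < 256) : nbAt v < 2 ^ 256 :=
  of_decide_eq_true (List.all_eq_true.1 nb_lt _ (by
    rw [nbAt, List.getD_eq_getElem _ _ (show v < nbL.length from hv)]; exact List.getElem_mem _))

theorem bit_isoM {u : Nat} (hu : u < 256) : isoM.testBit u = true ↔ Iso (vec u) := by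
  have h := List.all_eq_true.1 isoM_ok u (List.mem_range.2 hu)
  simp only [beq_iff_eq] at h
  rw [← bitB_eq, h, List.contains_iff_mem]
  refine ⟨iso_vec, fun hi => ?_⟩
  obtain ⟨n, hn, e⟩ := exists_iso_code hi
  rwa [← vec_inj (isoL_lt n hn) hu e]

theorem bit_nb {v u : Nat} (hv : v < 256) (hu : u < 256) :
    (nbAt v).testBit u = true ↔ Iso (vec u + vec v) := by
  have h := List.all_eq_true.1 (List.all_eq_true.1 nb_ok v (List.mem_range.2 hv)) u (List.mem_range.2 hu)
  simp only [beq_iff_eq] at h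
  rw [← bitB_eq, h, bitB_eq, bit_isoM (Nat.xor_lt_two_pow (n := 8) hu hv), vec_xor]

theorem exists_lt_of_mask {v : Nat} (hv : v < 256) {m : Nat} (h : m &&& nbAt v ≠ 0) :
    ∃ u < 256, m.testBit u = true ∧ (nbAt v).testBit u = true := by
  obtain ⟨u, hu⟩ := Nat.exists_testBit_of_ne_zero h
  rw [Nat.testBit_and, Bool.and_eq_true] at hu
  refine ⟨u, ?_, hu⟩
  by_contra hge
  rw [Nat.testBit_lt_two_pow ((nbAt_lt hv).trans_le
    (Nat.pow_le_pow_right two_pos (not_lt.1 hge)))] at hu
  exact Bool.noConfusion hu.2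

/-- the check of the layers around one anisotropic vector -/
def connAt (e : Nat × Nat × Nat × Nat) : Bool :=
  bitB (isoM &&& nbAt e.1) e.2.1 && (List.range 256).all fun u =>
    (!(bitB e.2.2.1 u) ||
      bitB (isoM &&& nbAt e.1) u && (u == e.2.1 || bitB (nbAt e.2.1) u)) &&
    (!(bitB e.2.2.2 u) ||
      bitB (isoM &&& nbAt e.1) u && (bitB e.2.2.1 u || !(e.2.2.1 &&& nbAt u == 0))) &&
    (!(bitB (isoM &&& nbAt e.1) u) || bitB e.2.2.2 u || !(e.2.2.2 &&& nbAt u == 0))

theorem conn_ok : connL.all connAt = true := by decide +kernel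

theorem conn_cover : (List.range 256).all (fun v =>
    v == 0 || hN v v == 0 || connL.any fun e => e.1 == v) = true := by decide +kernel

theorem edge_ok : connL.all (fun e => connL.all fun e' =>
    !(bitB isoM (e.1 ^^^ e'.1)) || !(isoM &&& nbAt e.1 &&& nbAt e'.1 == 0)) = true := by
  decide +kernel

theorem connL_lt : connL.all (fun e => e.1 < 256 && e.2.1 < 256) = true := by decide +kernel

theorem exists_conn {v : V4} (hv : h4 v v ≠ 0) : ∃ e ∈ connL, vec e.1 = v := by
  obtain ⟨n, hn, rfl⟩ := exists_code v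
  have := List.all_eq_true.1 conn_cover n (List.mem_range.2 hn)
  simp only [Bool.or_eq_true, beq_iff_eq, List.any_eq_true] at this
  rcases this with (rfl | h) | ⟨e, he, rfl⟩
  · exact absurd (by rw [vec_zero, h4_zero_left]) hv
  · exact absurd ((h4_vec_zero_iff _ _).2 h) hv
  · exact ⟨e, he, rfl⟩

/-- Properties spread along isotropic differences among the isotropic neighbours of a vector. -/
theorem conn_induction {v : V4} (hv : h4 v v ≠ 0) :
    ∃ u₀, Iso u₀ ∧ Iso (u₀ + v) ∧ ∀ P : V4 → Prop, P u₀ →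
      (∀ u u', Iso u → Iso (u + v) → Iso u' → Iso (u' + v) → Iso (u + u') → P u → P u') →
      ∀ u, Iso u → Iso (u + v) → P u := by
  obtain ⟨e, he, rfl⟩ := exists_conn hv
  have hc := List.all_eq_true.1 conn_ok e he
  have hlt := List.all_eq_true.1 connL_lt e he
  simp only [Bool.and_eq_true, decide_eq_true_eq] at hlt
  simp only [connAt, Bool.and_eq_true, Bool.or_eq_true, Bool.not_eq_true', bitB_eq,
    Nat.testBit_and, beq_iff_eq, beq_eq_false_iff_ne, List.all_eq_true, List.mem_range] at hc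
  obtain ⟨⟨hs1, hs2⟩, hall⟩ := hc
  have ins : ∀ u < 256, isoM.testBit u = true ∧ (nbAt e.1).testBit u = true →
      Iso (vec u) ∧ Iso (vec u + vec e.1) :=
    fun u hu h => ⟨(bit_isoM hu).1 h.1, (bit_nb hlt.1 hu).1 h.2⟩
  obtain ⟨i1, i2⟩ := ins _ hlt.2 ⟨hs1, hs2⟩
  refine ⟨vec e.2.1, i1, i2, fun P h0 hstep => ?_⟩
  have step : ∀ m : Nat, (∀ a < 256, m.testBit a = true →
      (isoM.testBit a = true ∧ (nbAt e.1).testBit a = true) ∧ P (vec a)) →
      ∀ a < 256, isoM.testBit a = true ∧ (nbAt e.1).testBit a = true → m &&& nbAt a ≠ 0 → P (vec a) := by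
    intro m hm a ha hcn hne
    obtain ⟨s, hs, hms, hsa⟩ := exists_lt_of_mask ha hne
    obtain ⟨hscn, hPs⟩ := hm s hs hms
    exact hstep _ _ (ins s hs hscn).1 (ins s hs hscn).2 (ins a ha hcn).1 (ins a ha hcn).2
      ((bit_nb ha hs).1 hsa) hPs
  have l1 : ∀ a < 256, e.2.2.1.testBit a = true →
      (isoM.testBit a = true ∧ (nbAt e.1).testBit a = true) ∧ P (vec a) := fun a ha h => by
    rcases (hall a ha).1.1.resolve_left (by simp [h]) with ⟨hcn, rfl | h'⟩
    · exact ⟨hcn, h0⟩
    · exact ⟨hcn, hstep _ _ i1 i2 (ins a ha hcn).1 (ins a ha hcn).2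
        (by rw [add_comm]; exact (bit_nb hlt.2 ha).1 h') h0⟩
  have l2 : ∀ a < 256, e.2.2.2.testBit a = true →
      (isoM.testBit a = true ∧ (nbAt e.1).testBit a = true) ∧ P (vec a) := fun a ha h => by
    rcases (hall a ha).1.2.resolve_left (by simp [h]) with ⟨hcn, h' | h'⟩
    · exact ⟨hcn, (l1 a ha h').2⟩
    · exact ⟨hcn, step _ l1 a ha hcn h'⟩
  intro u hu hun
  obtain ⟨a, ha, rfl⟩ := exists_code u
  have hcn := And.intro ((bit_isoM ha).2 hu) ((bit_nb hlt.1 ha).2 hun)
  rcases (hall a ha).2 with (h | h) | h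
  · simp [hcn] at h
  · exact (l2 a ha h).2
  · exact step _ l2 a ha hcn h

/-- Two anisotropic vectors with isotropic difference have a common isotropic neighbour. -/
theorem exists_common_nbr {v w : V4} (hv : h4 v v ≠ 0) (hw : h4 w w ≠ 0) (hvw : Iso (v + w)) :
    ∃ u, Iso u ∧ Iso (u + v) ∧ Iso (u + w) := by
  obtain ⟨e, he, rfl⟩ := exists_conn hv
  obtain ⟨e', he', rfl⟩ := exists_conn hw
  have h1 := List.all_eq_true.1 connL_lt e he
  have h2 := List.all_eq_true.1 connL_lt e' he'
  simp only [Bool.and_eq_true, decide_eq_true_eq] at h1 h2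
  have hx := (bit_isoM (Nat.xor_lt_two_pow (n := 8) h1.1 h2.1)).2 (by rw [vec_xor]; exact hvw)
  have h := List.all_eq_true.1 (List.all_eq_true.1 edge_ok e he) e' he'
  simp only [bitB_eq, hx, Bool.not_true, Bool.false_or, Bool.not_eq_true', beq_eq_false_iff_ne] at h
  obtain ⟨u, hu, hm, hn⟩ := exists_lt_of_mask h2.1 h
  rw [Nat.testBit_and, Bool.and_eq_true] at hm
  exact ⟨vec u, (bit_isoM hu).1 hm.1, (bit_nb h1.1 hu).1 hm.2, (bit_nb h2.1 hu).1 hn⟩

end Cfsg.Agent.Lib.U62Recog47
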