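import Cfsg.Agent.Lib.U62Recog47.Section

/-!
Recognition of PSU(6, 2): coordinates `(α, v)`, `α + α² = h v v`, on the members at distance two, in which
two of them commute iff `α + β² + h v w = 0`.

Owner: helper47.
-/

set_option autoImplicit false
set_option maxRecDepth 20000
set_option linter.constructorNameAsVariable false

namespace Cfsg.Agent.Lib.U62Recog47

open Cfsg.Agent.Lib.G24

variable {K : Type*} [Group K] {D : Set K} {a : K} (h : Host D a)
include h

omit h in
theorem k4_cases {x y : K4} (h : x + x * x = y + y * y) : x = y ∨ x = y + 1 := by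
  revert x y; decide

/-- the setting with the near coordinates measured from a member at distance two -/
noncomputable def Host.recenter {x₀ : K} (hx : Far D a x₀) : Host D a :=
  { h with
    chart :=
      { pt := fun p c => h.chart.pt p (c + h.sec x₀ p)
        scale := fun p c l hp hl => by
          show h.chart.pt (l • p) (l * c + h.sec x₀ (l • p)) = _
          rw [h.sec_smul hx hp hl, ← mul_add, h.chart.scale p _ l hp hl]
        mem := fun p c hp => h.chart.mem p _ hp
        surj := fun x hx' => by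
          obtain ⟨p, c, hp, rfl⟩ := h.chart.surj x hx'
          exact ⟨p, c + h.sec x₀ p, hp, by
            show _ = h.chart.pt p (c + h.sec x₀ p + h.sec x₀ p)
            rw [add_assoc, k4_two, add_zero]⟩
        inj := fun p q c d hp hq e => by
          obtain ⟨l, hl, rfl, e2⟩ := h.chart.inj p q _ _ hp hq e
          refine ⟨l, hl, rfl, ?_⟩
          rw [h.sec_smul hx hp hl] at e2
          linear_combination e2
        comm := fun p q c d hp hq => h.chart.comm p q _ _ hp hq
        braid := fun p q c d hp hq => h.chart.braid p q _ _ hp hq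
        shift := fun w => by
          obtain ⟨g, hg, hg'⟩ := h.chart.shift w
          refine ⟨g, hg, fun p c hp => ?_⟩
          show g * h.chart.pt p (c + h.sec x₀ p) * g⁻¹ = _
          rw [hg' p _ hp, add_right_comm] } }

theorem Host.recenter_sec {x₀ : K} (hx : Far D a x₀) {p : V4} (hp : Iso p) :
    (h.recenter hx).sec x₀ p = 0 := by
  refine (((h.recenter hx).sec_iff hx hp 0).1 ?_).symm
  show Commute x₀ (h.chart.pt p (0 + h.sec x₀ p))
  rw [zero_add]
  exact (h.sec_iff hx hp _).2 rfl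

omit h in
/-- the other member over the same section -/
def flip' (a y : K) : K := a * y * a⁻¹

theorem Host.flip_flip (y : K) : flip' a (flip' a y) = y := by
  rw [flip', flip', h.inv_eq h.mem,
    show a * (a * y * a) * a = a * a * y * (a * a) by group, h.sq h.mem, one_mul, mul_one]

theorem Host.flip_far {y : K} (hy : Far D a y) : Far D a (flip' a y) :=
  h.far_shift hy (Commute.refl a)

theorem Host.flip_ne {y : K} (hy : Far D a y) : flip' a y ≠ y :=
  fun e => hy.2.1 (mul_inv_eq_iff_eq_mul.1 e)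

theorem Host.sec_flip {y : K} (hy : Far D a y) {p : V4} (hp : Iso p) :
    h.sec (flip' a y) p = h.sec y p := by
  refine ((h.sec_iff (h.flip_far hy) hp _).1 ?_).symm
  rw [flip', ← conj_fix (h.chart.mem p (h.sec y p) hp).2.2, conj_commute]
  exact (h.sec_iff hy hp _).2 rfl

/-- the chart is centred at `x₀` -/
def Centred (x₀ : K) : Prop := Far D a x₀ ∧ ∀ p, Iso p → h.sec x₀ p = 0

section Centred

variable {x₀ : K} (hc : Centred h x₀)
include hc

theorem Host.exists_svec {y : K} (hy : Far D a y) :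
    ∃ w : V4, ∀ p, Iso p → h.sec y p = h4 p w := by
  obtain ⟨w, hw⟩ := h.sec_translate hc.1 hy
  exact ⟨w, fun p hp => by rw [hw p hp, hc.2 p hp, zero_add]⟩

omit hc in
open Classical in
/-- the vector of a section -/
noncomputable def Host.svec (y : K) : V4 :=
  if hh : ∃ w : V4, ∀ p, Iso p → h.sec y p = h4 p w then hh.choose else 0

theorem Host.svec_spec {y : K} (hy : Far D a y) {p : V4} (hp : Iso p) :
    h.sec y p = h4 p (h.svec y) := by
  have hh := h.exists_svec hc hy
  rw [Host.svec, dif_pos hh]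
  exact hh.choose_spec p hp

theorem Host.svec_eq {y : K} (hy : Far D a y) {w : V4}
    (hw : ∀ p, Iso p → h.sec y p = h4 p w) : h.svec y = w := by
  have h0 : h.svec y + w = 0 := nondeg fun p hp => by
    rw [h4_add_right, ← h.svec_spec hc hy hp, hw p hp, k4_two]
  rw [← add_zero (h.svec y), ← vadd_self w, ← add_assoc, h0, zero_add]

theorem Host.svec_center : h.svec x₀ = 0 :=
  h.svec_eq hc hc.1 fun p hp => by rw [hc.2 p hp, h4_zero_right]

theorem Host.svec_flip {y : K} (hy : Far D a y) : h.svec (flip' a y) = h.svec y :=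
  h.svec_eq hc (h.flip_far hy) fun p hp => by rw [h.sec_flip hy hp, h.svec_spec hc hy hp]

theorem Host.svec_pair {x y : K} (hx : Far D a x) (hy : Far D a y) (e : h.svec y = h.svec x) :
    y = x ∨ y = flip' a x :=
  h.pair_section hx hy fun p hp => by rw [h.svec_spec hc hy hp, h.svec_spec hc hx hp, e]

/-- A neighbour lies over the near member it shares with the two ends. -/
theorem Host.nbr_point {x y : K} (hx : Far D a x) (hy : Far D a y) (hxy : Commute x y) (hne : y ≠ x) :
    ∃ (q : V4) (c : K4), Iso q ∧ y = (h.rebase hx.1).chart.pt q c ∧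
      ∃ l : K4, l ≠ 0 ∧ ∃ p, Iso p ∧ h.svec x + h.svec y = l • p ∧
        (h.rebase hx.1).chart.pt q ((h.rebase hx.1).sec a q) = h.chart.pt p (h.sec x p) := by
  set hX := h.rebase hx.1
  obtain ⟨q, c, hq, rfl⟩ := hX.chart.surj y ⟨hy.1, hne, hxy⟩
  obtain ⟨t₀, ht₀, ht₀x⟩ := hx.2.2
  have hfar : Far D x a :=
    ⟨h.mem, fun e => hx.2.1 e.symm, t₀, ⟨ht₀.1, fun e => hx.2.1 (e ▸ ht₀.2.2), ht₀x.symm⟩,
      ht₀.2.2.symm⟩
  set t := hX.chart.pt q (hX.sec a q)
  have htx : t ∈ perp D x := hX.chart.mem _ _ hq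
  have hta : Commute a t := (hX.sec_iff hfar hq _).2 rfl
  obtain ⟨p, d, hp, ht⟩ := h.chart.surj t ⟨htx.1, fun e => hx.2.1 (e ▸ htx.2.2.symm), hta⟩
  have hd : d = h.sec x p := (h.sec_iff hx hp d).1 (by rw [← ht]; exact htx.2.2)
  subst hd
  refine ⟨q, c, hq, rfl, ?_⟩
  have hiff : ∀ r, Iso r → (h4 r (h.svec x + h.svec (hX.chart.pt q c)) = 0 ↔ h4 r p = 0) := by
    intro r hr
    set tr := h.chart.pt r (h.sec x r)
    have htr : tr ∈ perp D a := h.chart.mem _ _ hr
    have hxtr : Commute x tr := (h.sec_iff hx hr _).2 rfl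
    obtain ⟨s, e, hs, es⟩ := hX.chart.surj tr
      ⟨htr.1, fun ee => hx.2.1 (ee ▸ htr.2.2), hxtr⟩
    rw [h4_add_right, ← h.svec_spec hc hx hr, ← h.svec_spec hc hy hr]
    have e0 : h.sec x r + h.sec (hX.chart.pt q c) r = 0 ↔ h.sec x r = h.sec (hX.chart.pt q c) r := by
      generalize h.sec x r = u, h.sec (hX.chart.pt q c) r = v
      revert u v; decide
    rw [e0, ← h.sec_iff hy hr]
    show Commute (hX.chart.pt q c) tr ↔ _
    rw [es, hX.chart.comm _ _ _ _ hq hs, ← hX.chart.comm q s (hX.sec a q) e hq hs, ← es]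
    show Commute t tr ↔ _
    rw [ht, h.chart.comm _ _ _ _ hp hr]
    exact ⟨h4_orth_symm, h4_orth_symm⟩
  obtain ⟨l, hl⟩ := orth_span hp (v := h.svec x + h.svec (hX.chart.pt q c))
    fun r hr h1 => (hiff r hr).2 h1
  refine ⟨l, fun e => ?_, p, hp, hl, ht⟩
  obtain ⟨r, hr, h1⟩ := exists_nonorth hp
  refine h1 (h4_orth_symm ((hiff r hr).1 ?_))
  rw [hl, e, zero_smul, h4_zero_right]

theorem Host.nbr_iso {x y : K} (hx : Far D a x) (hy : Far D a y) (hxy : Commute x y) (hne : y ≠ x) :
    Iso (h.svec x + h.svec y) := by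
  obtain ⟨-, -, -, -, l, hl, p, hp, e, -⟩ := h.nbr_point hc hx hy hxy hne
  exact e ▸ hp.smul hl

theorem Host.nbr_unique {x y y' : K} (hx : Far D a x) (hy : Far D a y) (hy' : Far D a y')
    (h1 : Commute x y) (h2 : Commute x y') (n1 : y ≠ x) (n2 : y' ≠ x)
    (e : h.svec y = h.svec y') : y = y' := by
  set hX := h.rebase hx.1
  obtain ⟨q, c, hq, ey, l, hl, p, hp, ev, et⟩ := h.nbr_point hc hx hy h1 n1
  obtain ⟨q', c', hq', ey', l', hl', p', hp', ev', et'⟩ := h.nbr_point hc hx hy' h2 n2
  have hp'' : p' = (l'⁻¹ * l) • p := by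
    rw [mul_smul, ← ev, e, ev', smul_smul, inv_mul_cancel₀ hl', one_smul]
  have hm : l'⁻¹ * l ≠ 0 := mul_ne_zero (inv_ne_zero hl') hl
  rw [hp'', h.sec_smul hx hp hm, h.chart.scale _ _ _ hp hm, ← et] at et'
  obtain ⟨m, hm', rfl, -⟩ := hX.chart.inj _ _ _ _ hq hq' et'.symm
  by_contra hne
  obtain ⟨r, hr, hpr⟩ := exists_nonorth hp
  set R := h.chart.pt r (h.sec y r)
  have hyR : Commute y R := (h.sec_iff hy hr _).2 rfl
  have hyR' : Commute y' R := (h.sec_iff hy' hr _).2 (by
    rw [h.svec_spec hc hy hr, h.svec_spec hc hy' hr, e])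
  have hR : R ∈ perp D a := h.chart.mem _ _ hr
  have hscale : hX.chart.pt (m • q) c' = hX.chart.pt q (m⁻¹ * c') := by
    rw [← hX.chart.scale q (m⁻¹ * c') m hq hm', mul_inv_cancel_left₀ hm']
  have hcomm := hX.fibre hq (d := c) (d' := m⁻¹ * c') (fun ee => hne ?_) hR.1 ?_ ?_
  · have h5 : h.sec y r = h.sec x r := (h.sec_iff hx hr _).1 hcomm.symm
    apply hpr
    rw [h.svec_spec hc hy hr, h.svec_spec hc hx hr] at h5
    have h6 : h4 r (h.svec x + h.svec y) = 0 := by rw [h4_add_right, h5, k4_two]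
    rw [ev, h4_smul_right, mul_eq_zero] at h6
    exact h4_orth_symm (h6.resolve_left (mul_ne_zero hl hl))
  · rw [ey', hscale, ey, ee]
  · rw [← ey]; exact hyR.symm
  · rw [← hscale, ← ey']; exact hyR'.symm

theorem Host.nbr_exists {x : K} (hx : Far D a x) {d : V4} (hd : Iso d) :
    ∃ y, Far D a y ∧ Commute x y ∧ y ≠ x ∧ h.svec y = h.svec x + d := by
  classical
  set hX := h.rebase hx.1
  have ht := h.chart.mem d (h.sec x d) hd
  have htx : Commute x (h.chart.pt d (h.sec x d)) := (h.sec_iff hx hd _).2 rfl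
  obtain ⟨q, c₀, hq, et⟩ := hX.chart.surj _ ⟨ht.1, fun e => hx.2.1 (e ▸ ht.2.2), htx⟩
  have hmk : ∀ c, c ≠ c₀ → Far D a (hX.chart.pt q c) ∧ hX.chart.pt q c ≠ x ∧
      Commute x (hX.chart.pt q c) ∧
      ∃ l : K4, l ≠ 0 ∧ h.svec x + h.svec (hX.chart.pt q c) = l • d := by
    intro c hcc
    have hy := hX.chart.mem q c hq
    have hyt : Commute (h.chart.pt d (h.sec x d)) (hX.chart.pt q c) := by
      rw [et]; exact (hX.chart.comm q q _ _ hq hq).2 hq.2
    have hfar : Far D a (hX.chart.pt q c) := by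
      refine ⟨hy.1, fun e => hx.2.1 ?_, _, ht, hyt⟩
      exact hX.fibre hq hcc h.mem e (by rw [← et]; exact ht.2.2)
    obtain ⟨q', c', hq', e', l, hl, p, hp, ev, et'⟩ := h.nbr_point hc hx hfar hy.2.2 hy.2.1
    refine ⟨hfar, hy.2.1, hy.2.2, ?_⟩
    obtain ⟨m, hm, rfl, -⟩ := hX.chart.inj _ _ _ _ hq hq' e'
    have hsec : hX.sec a q = c₀ := by
      obtain ⟨t₀, ht₀, ht₀x⟩ := hx.2.2
      refine ((hX.sec_iff (x := a) ⟨h.mem, fun e => hx.2.1 e.symm, t₀,
        ⟨ht₀.1, fun e => hx.2.1 (e ▸ ht₀.2.2), ht₀x.symm⟩, ht₀.2.2.symm⟩ hq c₀).1 ?_).symm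
      rw [← et]; exact ht.2.2
    have hfa : Far D x a := by
      obtain ⟨t₀, ht₀, ht₀x⟩ := hx.2.2
      exact ⟨h.mem, fun e => hx.2.1 e.symm, t₀,
        ⟨ht₀.1, fun e => hx.2.1 (e ▸ ht₀.2.2), ht₀x.symm⟩, ht₀.2.2.symm⟩
    rw [hX.sec_smul hfa hq hm, hX.chart.scale _ _ _ hq hm, hsec, ← et] at et'
    obtain ⟨k, hk, rfl, -⟩ := h.chart.inj _ _ _ _ hd hp et'
    exact ⟨l * k, mul_ne_zero hl hk, by rw [ev, smul_smul]⟩
  let f : {c : K4 // c ≠ c₀} → {l : K4 // l ≠ 0} := fun c =>
    ⟨(hmk c.1 c.2).2.2.2.choose, (hmk c.1 c.2).2.2.2.choose_spec.1⟩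
  have hf : ∀ c : {c : K4 // c ≠ c₀}, h.svec x + h.svec (hX.chart.pt q c.1) = (f c).1 • d :=
    fun c => (hmk c.1 c.2).2.2.2.choose_spec.2
  have hinj : Function.Injective f := by
    intro c c' e
    have hs : h.svec (hX.chart.pt q c.1) = h.svec (hX.chart.pt q c'.1) := by
      have e' : h.svec x + h.svec (hX.chart.pt q c.1) = h.svec x + h.svec (hX.chart.pt q c'.1) := by
        rw [hf c, hf c', e]
      exact add_left_cancel e'
    obtain ⟨f1, n1, x1, -⟩ := hmk c.1 c.2
    obtain ⟨f2, n2, x2, -⟩ := hmk c'.1 c'.2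
    obtain ⟨m, -, e1, e2⟩ := hX.chart.inj _ _ _ _ hq hq (h.nbr_unique hc hx f1 f2 x1 x2 n1 n2 hs)
    have hm1 : m = 1 := by
      by_contra h1
      have h2 : (m + 1) • q = 0 := by rw [add_smul, one_smul, ← e1, vadd_self]
      rcases smul_eq_zero.1 h2 with h3 | h3
      · exact h1 (by rw [← add_zero m, ← k4_two (1 : K4), ← add_assoc, h3, zero_add])
      · exact hq.1 h3
    exact Subtype.ext (by rw [e2, hm1, one_mul])
  have hcard : Fintype.card {c : K4 // c ≠ c₀} = Fintype.card {l : K4 // l ≠ 0} := by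
    simp [Fintype.card_subtype_compl]
  obtain ⟨c, hc1⟩ := ((Fintype.bijective_iff_injective_and_card f).2 ⟨hinj, hcard⟩).2
    ⟨1, one_ne_zero⟩
  obtain ⟨f1, n1, x1, -⟩ := hmk c.1 c.2
  refine ⟨_, f1, x1, n1, ?_⟩
  have e := hf c
  rw [hc1, one_smul] at e
  rw [← e, ← add_assoc, vadd_self, zero_add]

/-- the sign of a triangle -/
theorem Host.nbr_tri {x y y' : K} (hx : Far D a x) (hy : Far D a y) (hy' : Far D a y')
    (h1 : Commute x y) (h2 : Commute x y') (n1 : y ≠ x) (n2 : y' ≠ x) :
    Commute y y' ↔ h4 (h.svec x + h.svec y) (h.svec x + h.svec y') = 0 := by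
  set hX := h.rebase hx.1
  obtain ⟨q, c, hq, ey, l, hl, p, hp, ev, et⟩ := h.nbr_point hc hx hy h1 n1
  obtain ⟨q', c', hq', ey', l', hl', p', hp', ev', et'⟩ := h.nbr_point hc hx hy' h2 n2
  rw [ev, ev', h4_smul_left, h4_smul_right, ey, ey', hX.chart.comm _ _ _ _ hq hq',
    ← hX.chart.comm q q' (hX.sec a q) (hX.sec a q') hq hq', et, et',
    h.chart.comm _ _ _ _ hp hp']
  simp [hl, hl']

theorem Host.flip_not_commute {y : K} (hy : Far D a y) : ¬ Commute y (flip' a y) := fun e => by
  have := (h.nbr_iso hc hy (h.flip_far hy) e (h.flip_ne hy)).1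
  rw [h.svec_flip hc hy, vadd_self] at this
  exact this rfl

theorem Host.one_of_two {x y : K} (hx : Far D a x) (hy : Far D a y)
    (hd : Iso (h.svec x + h.svec y)) : Commute x y ↔ ¬ Commute x (flip' a y) := by
  obtain ⟨z, hz, hxz, hzx, hzv⟩ := h.nbr_exists hc hx hd
  rw [← add_assoc, vadd_self, zero_add] at hzv
  have hne : ∀ u, h.svec u = h.svec y → u ≠ x := fun u hu e => by
    rw [← hu, e, vadd_self] at hd; exact hd.1 rfl
  refine ⟨fun h1 h2 => ?_, fun h2 => ?_⟩
  · exact h.flip_ne hy (h.nbr_unique hc hx hy (h.flip_far hy) h1 h2 (hne y rfl)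
      (hne _ (h.svec_flip hc hy)) (h.svec_flip hc hy).symm).symm
  · rcases h.svec_pair hc hy hz hzv with rfl | rfl
    · exact hxz
    · exact absurd hxz h2

omit h in
/-- the coordinate is admissible over a vector -/
def Valid (α : K4) (v : V4) : Prop := α + α * α = h4 v v

omit h in
/-- the relation of the model -/
def MRel (α : K4) (u : V4) (β : K4) (v : V4) : Prop := α + β * β + h4 u v = 0

omit hc h in
theorem mrel_symm {α β : K4} {u v : V4} : MRel α u β v ↔ MRel β v α u := by
  unfold MRel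
  rw [h4_swap u v]
  generalize h4 u v = w
  revert α β w; decide

omit hc h in
theorem valid_flip {α : K4} {v : V4} (hα : Valid α v) : Valid (α + 1) v := by
  unfold Valid at hα ⊢
  generalize h4 v v = A at *
  revert α A; decide

omit hc h in
theorem mrel_flip {α β : K4} {u v : V4} (hα : Valid α u) (hβ : Valid β v) (hd : Iso (u + v)) :
    MRel α u β v ↔ ¬ MRel α u (β + 1) v := by
  have h0 := hd.2
  rw [h4_add_left, h4_add_right, h4_add_right, h4_swap u v] at h0
  unfold MRel Valid at *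
  generalize h4 u u = A, h4 v v = B, h4 u v = C at *
  revert α β A B C; decide

/-- A choice of one member with a coordinate over each vector. -/
structure Base where
  y : V4 → K
  β : V4 → K4
  far : ∀ v, Far D a (y v)
  overv : ∀ v, h.svec (y v) = v
  valid : ∀ v, Valid (β v) v

omit hc in
open Classical in
/-- the member with given coordinates -/
noncomputable def Base.el (B : Base h) (α : K4) (v : V4) : K :=
  if α = B.β v then B.y v else flip' a (B.y v)

/-- the coordinates describe commuting over a pair of vectors -/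
def Base.Good (B : Base h) (u v : V4) : Prop :=
  ∀ α β, Valid α u → Valid β v → (Commute (B.el h α u) (B.el h β v) ↔ MRel α u β v)

variable (B : Base h)

omit hc in
theorem Base.el_far (α : K4) (v : V4) : Far D a (B.el h α v) := by
  unfold Base.el; split
  · exact B.far v
  · exact h.flip_far (B.far v)

theorem Base.el_over (α : K4) (v : V4) : h.svec (B.el h α v) = v := by
  unfold Base.el; split
  · exact B.overv v
  · rw [h.svec_flip hc (B.far v), B.overv v]

omit hc in
theorem Base.el_flip {α : K4} {v : V4} (hα : Valid α v) :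
    B.el h (α + 1) v = flip' a (B.el h α v) := by
  rcases k4_cases (hα.trans (B.valid v).symm) with rfl | rfl
  · rw [Base.el, Base.el, if_neg (fun e => by
      have := congrArg (fun z => z + B.β v) e
      simp only [k4_two, add_comm _ (B.β v), ← add_assoc, zero_add, one_ne_zero] at this), if_pos rfl]
  · rw [add_assoc, k4_two, add_zero, Base.el, Base.el, if_pos rfl, if_neg (fun e => by
      have := congrArg (fun z => z + B.β v) e
      simp only [k4_two, add_comm _ (B.β v), ← add_assoc, zero_add, one_ne_zero] at this), h.flip_flip]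

omit hc in
theorem Base.el_base (v : V4) : B.el h (B.β v) v = B.y v := if_pos rfl

theorem Base.good_symm {u v : V4} (hg : B.Good h u v) : B.Good h v u := fun α β hα hβ => by
  rw [show Commute (B.el h α v) (B.el h β u) ↔ Commute (B.el h β u) (B.el h α v) from
    ⟨Commute.symm, Commute.symm⟩, hg β α hβ hα, mrel_symm]

/-- one pair decides all four -/
theorem Base.good_of_one {u v : V4} (hd : Iso (u + v)) {α₀ β₀ : K4} (hα₀ : Valid α₀ u)
    (hβ₀ : Valid β₀ v)
    (h0 : Commute (B.el h α₀ u) (B.el h β₀ v) ↔ MRel α₀ u β₀ v) : B.Good h u v := by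
  have right : ∀ {α β}, Valid α u → Valid β v →
      (Commute (B.el h α u) (B.el h β v) ↔ MRel α u β v) →
      (Commute (B.el h α u) (B.el h (β + 1) v) ↔ MRel α u (β + 1) v) := by
    intro α β hα hβ e
    rw [B.el_flip h hβ]
    have h1 := h.one_of_two hc (B.el_far h α u) (B.el_far h β v) (by rwa [B.el_over h hc, B.el_over h hc])
    have h2 := mrel_flip hα hβ hd
    tauto
  have left : ∀ {α β}, Valid α u → Valid β v →
      (Commute (B.el h α u) (B.el h β v) ↔ MRel α u β v) →
      (Commute (B.el h (α + 1) u) (B.el h β v) ↔ MRel (α + 1) u β v) := by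
    intro α β hα hβ e
    rw [show Commute (B.el h (α + 1) u) (B.el h β v) ↔ Commute (B.el h β v) (B.el h (α + 1) u) from
      ⟨Commute.symm, Commute.symm⟩, mrel_symm, B.el_flip h hα]
    have h1 := h.one_of_two hc (B.el_far h β v) (B.el_far h α u)
      (by rw [B.el_over h hc, B.el_over h hc, add_comm]; exact hd)
    have h2 := mrel_flip hβ hα (u := v) (v := u) (by rwa [add_comm])
    rw [mrel_symm] at e
    rw [show Commute (B.el h α u) (B.el h β v) ↔ Commute (B.el h β v) (B.el h α u) from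
      ⟨Commute.symm, Commute.symm⟩] at e
    tauto
  intro α β hα hβ
  rcases k4_cases (hα.trans hα₀.symm) with rfl | rfl <;>
    rcases k4_cases (hβ.trans hβ₀.symm) with rfl | rfl
  · exact h0
  · exact right hα₀ hβ₀ h0
  · exact left hα₀ hβ₀ h0
  · exact right (valid_flip hα₀) hβ₀ (left hα₀ hβ₀ h0)

theorem Base.tri {u v w : V4} (huv : Iso (u + v)) (huw : Iso (u + w)) (hvw : Iso (v + w))
    (g1 : B.Good h u v) (g2 : B.Good h u w) : B.Good h v w := by
  set α := B.β u
  have hα := B.valid u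
  have mk : ∀ {v : V4}, Iso (u + v) → Valid ((α + h4 u v) * (α + h4 u v)) v ∧
      MRel α u ((α + h4 u v) * (α + h4 u v)) v := by
    intro v hd
    have h0 := hd.2
    rw [h4_add_left, h4_add_right, h4_add_right, h4_swap u v] at h0
    have hα' : α + α * α = h4 u u := hα
    unfold MRel Valid
    generalize h4 u u = A, h4 v v = B', h4 u v = C at *
    clear_value α
    revert α A B' C; decide
  obtain ⟨hv, rv'⟩ := mk huv
  obtain ⟨hw, rw'⟩ := mk huw
  have c1 := (g1 α _ hα hv).2 rv'
  have c2 := (g2 α _ hα hw).2 rw'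
  have hne : ∀ {x : V4} (β : K4), Iso (u + x) → B.el h β x ≠ B.el h α u := fun β hd e => by
    have := congrArg h.svec e
    rw [B.el_over h hc, B.el_over h hc] at this
    rw [this, vadd_self] at hd; exact hd.1 rfl
  have ht := h.nbr_tri hc (B.el_far h α u) (B.el_far h _ v) (B.el_far h _ w) c1 c2
    (hne _ huv) (hne _ huw)
  rw [B.el_over h hc, B.el_over h hc, B.el_over h hc] at ht
  refine B.good_of_one h hc hvw hv hw (ht.trans ?_)
  have hα' : α + α * α = h4 u u := hα
  unfold MRel
  rw [h4_add_left, h4_add_right, h4_add_right, h4_swap u v]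
  have key : ∀ α A P R S : K4, α + α * α = A → (A + R + (P * P + S) = 0 ↔
      (α + P) * (α + P) + (α + R) * (α + R) * ((α + R) * (α + R)) + S = 0) := by decide
  exact key α _ _ _ _ hα'

omit hc h in
open Classical in
theorem exists_seed (v : V4) : h4 v v ≠ 0 → ∃ u, Iso u ∧ Iso (u + v) := fun hv => by
  obtain ⟨u, h1, h2, -⟩ := conn_induction hv
  exact ⟨u, h1, h2⟩

theorem Host.exists_base : ∃ B : Base h, ∀ u v, Iso (u + v) → B.Good h u v := by
  classical
  have hN : ∀ d, Iso d → ∃ y, Far D a y ∧ Commute x₀ y ∧ y ≠ x₀ ∧ h.svec y = d := fun d hd => by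
    obtain ⟨y, h1, h2, h3, h5⟩ := h.nbr_exists hc hc.1 hd
    exact ⟨y, h1, h2, h3, by rw [h5, h.svec_center hc, zero_add]⟩
  have hpick : ∀ v : V4, ∃ (y : K) (β : K4), Far D a y ∧ h.svec y = v ∧ Valid β v ∧
      (v = 0 → y = x₀ ∧ β = 0) ∧ (Iso v → Commute x₀ y ∧ β = 0) ∧
      (h4 v v ≠ 0 → ∃ u, Iso u ∧ Iso (u + v) ∧ β = h4 v u ∧
        ∀ z, Far D a z → h.svec z = u → Commute x₀ z → Commute z y) := by
    intro v
    by_cases hv0 : v = 0
    · subst hv0
      exact ⟨x₀, 0, hc.1, h.svec_center hc, by simp [Valid, h4_zero_left], fun _ => ⟨rfl, rfl⟩,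
        fun hh => absurd rfl hh.1, fun hh => absurd (h4_zero_left _) hh⟩
    by_cases hv : h4 v v = 0
    · obtain ⟨y, h1, h2, -, h5⟩ := hN v ⟨hv0, hv⟩
      exact ⟨y, 0, h1, h5, by simp [Valid, hv], fun hh => absurd hh hv0, fun _ => ⟨h2, rfl⟩,
        fun hh => absurd hv hh⟩
    obtain ⟨u, hu, huv⟩ := exists_seed v hv
    obtain ⟨z, hz, hz0, hzne, hzu⟩ := hN u hu
    obtain ⟨y, h1, h2, -, h5⟩ := h.nbr_exists hc hz huv
    refine ⟨y, h4 v u, h1, by rw [h5, hzu, ← add_assoc, vadd_self, zero_add], ?_,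
      fun hh => absurd hh hv0, fun hh => absurd hh.2 hv, fun _ => ⟨u, hu, huv, rfl, ?_⟩⟩
    · have h0 := huv.2
      rw [h4_add_left, h4_add_right, h4_add_right, hu.2, h4_swap v u] at h0
      unfold Valid
      generalize h4 v v = A, h4 v u = B at *
      revert A B; decide
    · intro z' hz' hz'u hz'0
      have hne : z' ≠ x₀ := fun e => hu.1 (by rw [← hz'u, e, h.svec_center hc])
      rw [h.nbr_unique hc hc.1 hz' hz hz'0 hz0 hne hzne (hz'u.trans hzu.symm)]
      exact h2
  choose y β hfar hover hvalid hz hiso haniso using hpick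
  let B : Base h := ⟨y, β, hfar, hover, hvalid⟩
  have g0 : ∀ d, Iso d → B.Good h 0 d := fun d hd => by
    refine B.good_of_one h hc (by rwa [zero_add]) (B.valid 0) (B.valid d) ?_
    rw [B.el_base, B.el_base]
    show Commute (y 0) (y d) ↔ MRel (β 0) 0 (β d) d
    rw [(hz 0 rfl).1, (hz 0 rfl).2, (hiso d hd).2]
    simp [(hiso d hd).1, MRel, h4_zero_left]
  have gii : ∀ u u', Iso u → Iso u' → Iso (u + u') → B.Good h u u' := fun u u' hu hu' hd =>
    B.tri h hc (by rwa [zero_add]) (by rwa [zero_add]) hd (g0 u hu) (g0 u' hu')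
  have gia : ∀ v, h4 v v ≠ 0 → ∀ u, Iso u → Iso (u + v) → B.Good h u v := by
    intro v hv
    obtain ⟨u₀, hu₀, hu₀v, hind⟩ := conn_induction hv
    obtain ⟨us, hus, husv, hβ, hnb⟩ := haniso v hv
    have gs : B.Good h us v := by
      refine B.good_of_one h hc husv (B.valid us) (B.valid v) ?_
      rw [B.el_base, B.el_base]
      show Commute (y us) (y v) ↔ MRel (β us) us (β v) v
      rw [(hiso us hus).2, hβ]
      refine iff_of_true (hnb _ (hfar us) (hover us) (hiso us hus).1) ?_
      unfold MRel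
      rw [h4_swap us v]
      generalize h4 us v = A
      revert A; decide
    have step : ∀ u u', Iso u → Iso (u + v) → Iso u' → Iso (u' + v) → Iso (u + u') →
        (B.Good h u v ↔ B.Good h u' v) := fun u u' hu huv hu' hu'v hd =>
      ⟨fun g => B.tri h hc hd huv hu'v (gii u u' hu hu' hd) g,
        fun g => B.tri h hc (by rwa [add_comm]) hu'v huv
          (B.good_symm h hc (gii u u' hu hu' hd)) g⟩
    have all : ∀ u, Iso u → Iso (u + v) → (B.Good h u v ↔ B.Good h u₀ v) :=
      hind _ Iff.rfl fun u u' h1 h2 h3 h5 h6 g => (step u u' h1 h2 h3 h5 h6).symm.trans g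
    exact fun u hu huv => (all u hu huv).2 ((all us hus husv).1 gs)
  refine ⟨B, fun u v hd => ?_⟩
  by_cases hu0 : u = 0
  · subst hu0; exact g0 v (by rwa [zero_add] at hd)
  by_cases hv0 : v = 0
  · subst hv0; exact B.good_symm h hc (g0 u (by rwa [add_zero] at hd))
  by_cases hu : h4 u u = 0
  · by_cases hv : h4 v v = 0
    · exact gii u v ⟨hu0, hu⟩ ⟨hv0, hv⟩ hd
    · exact gia v hv u ⟨hu0, hu⟩ hd
  by_cases hv : h4 v v = 0
  · exact B.good_symm h hc (gia u hu v ⟨hv0, hv⟩ (by rwa [add_comm]))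
  obtain ⟨w, hw, hwu, hwv⟩ := exists_common_nbr hu hv hd
  exact B.tri h hc hwu hwv hd (gia u hu w hw hwu) (gia v hv w hw hwv)

end Centred

/-- coordinates on the members at distance two -/
structure Coord where
  el : K4 → V4 → K
  far : ∀ α v, Valid α v → Far D a (el α v)
  sec : ∀ α v, Valid α v → ∀ p, Iso p → h.sec (el α v) p = h4 p v
  inj : ∀ α u β v, Valid α u → Valid β v → el α u = el β v → α = β ∧ u = v
  surj : ∀ x, Far D a x → ∃ α v, Valid α v ∧ el α v = x
  comm : ∀ α u β v, Valid α u → Valid β v → (Commute (el α u) (el β v) ↔ MRel α u β v)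

theorem Host.exists_coord {x₀ : K} (hc : Centred h x₀) : Nonempty (Coord h) := by
  obtain ⟨B, hB⟩ := h.exists_base hc
  have hinj : ∀ α u β v, Valid α u → Valid β v → B.el h α u = B.el h β v → α = β ∧ u = v := by
    intro α u β v hα hβ e
    have huv : u = v := by rw [← B.el_over h hc α u, e, B.el_over h hc β v]
    subst huv
    refine ⟨?_, rfl⟩
    rcases k4_cases (hα.trans hβ.symm) with e1 | rfl
    · exact e1
    · rw [B.el_flip h hβ] at e
      exact absurd e (h.flip_ne (B.el_far h β u))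
  refine ⟨⟨B.el h, fun α v _ => B.el_far h α v, fun α v _ p hp => by
    rw [h.svec_spec hc (B.el_far h α v) hp, B.el_over h hc], hinj, fun x hx => ?_, ?_⟩⟩
  · rcases h.svec_pair hc (B.far (h.svec x)) hx (B.overv _).symm with e | e
    · exact ⟨B.β (h.svec x), h.svec x, B.valid _, by rw [B.el_base]; exact e.symm⟩
    · exact ⟨B.β (h.svec x) + 1, h.svec x, valid_flip (B.valid _), by
        rw [B.el_flip h (B.valid _), B.el_base]; exact e.symm⟩
  intro α u β v hα hβ
  by_cases hd : Iso (u + v)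
  · exact hB u v hd α β hα hβ
  have hm : MRel α u β v → h4 (u + v) (u + v) = 0 := by
    intro hm
    rw [h4_add_left, h4_add_right, h4_add_right, h4_swap u v]
    unfold MRel Valid at *
    generalize h4 u u = A, h4 v v = B', h4 u v = C at *
    revert α β A B' C; decide
  by_cases huv : u = v
  · subst huv
    rcases k4_cases (hα.trans hβ.symm) with rfl | rfl
    · refine iff_of_true (Commute.refl _) ?_
      unfold MRel Valid at *
      have key : ∀ a : K4, a + a * a + (a + a * a) = 0 := by decide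
      rw [← hα]; exact key α
    · rw [B.el_flip h hβ]
      refine iff_of_false (fun e => h.flip_not_commute hc (B.el_far h β u) e.symm) ?_
      unfold MRel Valid at *
      have key : ∀ b : K4, ¬ b + 1 + b * b + (b + b * b) = 0 := by decide
      rw [← hβ]; exact key β
  refine iff_of_false (fun e => ?_) fun e => hd ⟨fun e0 => huv ?_, hm e⟩
  · have := h.nbr_iso hc (B.el_far h α u) (B.el_far h β v) e (fun ee => by
      exact huv (hinj _ _ _ _ hβ hα ee).2.symm)
    rw [B.el_over h hc, B.el_over h hc] at this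
    exact hd this
  · rw [← add_zero u, ← vadd_self v, ← add_assoc, e0, zero_add]

end Cfsg.Agent.Lib.U62Recog47
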