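import Cfsg.Agent.Lib.U62Recog47.Space

/-!
Recognition of PSU(6, 2): the members at distance two. Each of them commutes with exactly one near
point over every isotropic vector; these sections are translates of each other and two members share
each section.

Owner: helper47.
-/

set_option autoImplicit false
set_option maxRecDepth 20000
set_option linter.constructorNameAsVariable false

namespace Cfsg.Agent.Lib.U62Recog47

open Cfsg.Agent.Lib.G24

variable {K : Type*} [Group K] {D : Set K} {a : K}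

theorem conj_commute (g x y : K) : Commute (g * x * g⁻¹) (g * y * g⁻¹) ↔ Commute x y := by
  simp only [commute_iff_eq, show g * x * g⁻¹ * (g * y * g⁻¹) = g * (x * y) * g⁻¹ by group,
    show g * y * g⁻¹ * (g * x * g⁻¹) = g * (y * x) * g⁻¹ by group, mul_left_inj, mul_right_inj]

theorem conj_undo (g x : K) : g⁻¹ * (g * x * g⁻¹) * g⁻¹⁻¹ = x := by group

theorem conj_redo (g x : K) : g * (g⁻¹ * x * g) * g⁻¹ = x := by group

theorem conj_fix {g b : K} (h : Commute g b) : g * b * g⁻¹ = b := by rw [h.eq, mul_inv_cancel_right]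

theorem conj_inj {g x y : K} (h : g * x * g⁻¹ = g * y * g⁻¹) : x = y :=
  mul_left_cancel (mul_right_cancel h)

theorem Host.sq (h : Host D a) {x : K} (hx : x ∈ D) : x * x = 1 := by
  rw [← pow_two, ← h.order x hx, pow_orderOf_eq_one]

theorem Host.inv_eq (h : Host D a) {x : K} (hx : x ∈ D) : x⁻¹ = x :=
  inv_eq_of_mul_eq_one_right (h.sq hx)

theorem perp_conj (hD : ∀ g : K, ∀ x ∈ D, g * x * g⁻¹ ∈ D) (g : K) {b x : K}
    (hx : x ∈ perp D b) : g * x * g⁻¹ ∈ perp D (g * b * g⁻¹) :=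
  ⟨hD g x hx.1, fun e => hx.2.1 (conj_inj e), (conj_commute g b x).2 hx.2.2⟩

/-- a chart moved by conjugation -/
def Chart.map (c : Chart D a) (hD : ∀ g : K, ∀ x ∈ D, g * x * g⁻¹ ∈ D) (g : K) :
    Chart D (g * a * g⁻¹) where
  pt p d := g * c.pt p d * g⁻¹
  scale p d l hp hl := by rw [c.scale p d l hp hl]
  mem p d hp := perp_conj hD g (c.mem p d hp)
  surj x hx := by
    have h := perp_conj hD g⁻¹ hx
    rw [conj_undo] at h
    obtain ⟨p, d, hp, e⟩ := c.surj _ h
    exact ⟨p, d, hp, by rw [← e, inv_inv, conj_redo]⟩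
  inj p q d e hp hq h := c.inj p q d e hp hq (conj_inj h)
  comm p q d e hp hq := (conj_commute g _ _).trans (c.comm p q d e hp hq)
  braid p q d e hp hq h := by
    rw [show g * c.pt p d * g⁻¹ * (g * c.pt q e * g⁻¹) = g * (c.pt p d * c.pt q e) * g⁻¹ by group,
      conj_pow, c.braid p q d e hp hq h, mul_one, mul_inv_cancel]
  shift w := by
    obtain ⟨k, hk, hk'⟩ := c.shift w
    refine ⟨g * k * g⁻¹, (conj_commute g k a).2 hk, fun p d hp => ?_⟩
    rw [← hk' p d hp]; group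

theorem Chart.exists_map (h : Host D a) {x : K} (hx : x ∈ D) : Nonempty (Chart D x) := by
  obtain ⟨g, rfl⟩ := h.trans x hx
  exact ⟨h.chart.map h.conjD g⟩

/-- the setting seen from another member -/
noncomputable def Host.rebase (h : Host D a) {x : K} (hx : x ∈ D) : Host D x where
  mem := hx
  order := h.order
  conjD := h.conjD
  trans y hy := by
    obtain ⟨g, rfl⟩ := h.trans x hx
    obtain ⟨k, rfl⟩ := h.trans y hy
    exact ⟨k * g⁻¹, by group⟩
  chart := Classical.choice (Chart.exists_map h hx)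
  kernel k hka hk := by
    obtain ⟨g, rfl⟩ := h.trans x hx
    have h1 : Commute (g⁻¹ * k * g) a := by
      refine (conj_commute g _ _).1 ?_
      rwa [conj_redo]
    rcases h.kernel _ h1 fun y hy => by
        refine (conj_commute g _ _).1 ?_
        rw [conj_redo]
        exact hk _ (perp_conj h.conjD g hy) with e | e
    · left; rw [← conj_redo g k, e, mul_one, mul_inv_cancel]
    · right; rw [← conj_redo g k, e]

section ChartLemmas

variable (c : Chart D a)

/-- the near member over a point with a coordinate -/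
def Chart.pr (i : Pt) (d : K4) : K := c.pt (rv i) d

theorem Chart.pr_mem (i : Pt) (d : K4) : c.pr i d ∈ perp D a := c.mem _ _ (rv_iso i)

theorem Chart.pr_surj {x : K} (hx : x ∈ perp D a) : ∃ i d, c.pr i d = x := by
  obtain ⟨p, d, hp, rfl⟩ := c.surj x hx
  obtain ⟨i, l, hl, rfl⟩ := exists_pt hp
  refine ⟨i, l⁻¹ * d, ?_⟩
  rw [Chart.pr, ← c.scale _ _ l (rv_iso i) hl, mul_inv_cancel_left₀ hl]

theorem Chart.pr_inj {i j : Pt} {d e : K4} (h : c.pr i d = c.pr j e) : i = j ∧ d = e := by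
  obtain ⟨l, hl, h1, h2⟩ := c.inj _ _ _ _ (rv_iso i) (rv_iso j) h
  obtain ⟨e1, rfl⟩ := pt_unique hl h1
  exact ⟨e1, by rw [h2, one_mul]⟩

theorem Chart.pr_comm (i j : Pt) (d e : K4) :
    Commute (c.pr i d) (c.pr j e) ↔ orthB i.1 j.1 = true :=
  (c.comm _ _ _ _ (rv_iso i) (rv_iso j)).trans (orth_iff i j)

end ChartLemmas

theorem orthB_self (i : Pt) : orthB i.1 i.1 = true := (orth_iff i i).1 (rv_iso i).2

theorem common_pairwise_ok : (List.range 45).all (fun i => (List.range 45).all fun j => orthB i j ||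
    ((List.range 45).filter fun k => orthB i k && orthB j k).all fun k =>
      ((List.range 45).filter fun k => orthB i k && orthB j k).all fun k' =>
        k == k' || !(orthB k k')) = true := by decide +kernel

theorem common_pairwise {i j k k' : Pt} (hij : orthB i.1 j.1 = false)
    (h1 : orthB i.1 k.1 = true) (h2 : orthB j.1 k.1 = true) (h3 : orthB i.1 k'.1 = true)
    (h4 : orthB j.1 k'.1 = true) (h5 : orthB k.1 k'.1 = true) : k = k' := by
  have h := List.all_eq_true.1 (List.all_eq_true.1 common_pairwise_ok i.1 (List.mem_range.2 i.2))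
    j.1 (List.mem_range.2 j.2)
  simp only [hij, Bool.false_or, List.all_eq_true, List.mem_filter, List.mem_range,
    Bool.and_eq_true, Bool.or_eq_true, Bool.not_eq_true', beq_iff_eq] at h
  exact Fin.ext ((h k.1 ⟨k.2, h1, h2⟩ k'.1 ⟨k'.2, h3, h4⟩).resolve_right (by simp [h5]))

variable (h : Host D a)

/-- a member commuting with two near points over the same vector commutes with `a` -/
theorem Host.fibre {p : V4} (hp : Iso p) {d d' : K4} (hd : d ≠ d') {y : K} (hy : y ∈ D)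
    (h1 : Commute y (h.chart.pt p d)) (h2 : Commute y (h.chart.pt p d')) : Commute y a := by
  set b := h.chart.pt p d
  set b' := h.chart.pt p d'
  have hb : b ∈ perp D a := h.chart.mem p d hp
  have hb' : b' ∈ perp D a := h.chart.mem p d' hp
  by_cases hyb : y = b
  · rw [hyb]; exact hb.2.2.symm
  have hne : b' ≠ b := fun e => by
    obtain ⟨l, hl, e1, e2⟩ := h.chart.inj p p d' d hp hp e
    obtain ⟨i, m, hm, rfl⟩ := exists_pt hp
    have hl1 : l = 1 := (pt_unique hl (i := i) (j := i)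
      (by have := congrArg (fun v : V4 => m⁻¹ • v) e1
          rwa [smul_smul, inv_mul_cancel₀ hm, one_smul, smul_comm, smul_smul m⁻¹ m,
            inv_mul_cancel₀ hm, one_smul] at this)).2
    exact hd (by rw [e2, hl1, one_mul])
  have hbb' : Commute b b' := (h.chart.comm p p d d' hp hp).2 hp.2
  obtain ⟨C⟩ := Chart.exists_map h hb.1
  obtain ⟨A, ca, ea⟩ := C.pr_surj (x := a) ⟨h.mem, Ne.symm hb.2.1, hb.2.2.symm⟩
  obtain ⟨B, cb, eb⟩ := C.pr_surj (x := b') ⟨hb'.1, hne, hbb'⟩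
  obtain ⟨Y, cy, ey⟩ := C.pr_surj (x := y) ⟨hy, hyb, h1.symm⟩
  have hsub : ∀ k : Pt, orthB A.1 k.1 = true → orthB B.1 k.1 = true := by
    intro k hk
    obtain ⟨e, he⟩ : ∃ e : K4, C.pr k e ≠ a := by
      by_contra hcon
      push Not at hcon
      exact zero_ne_one (C.pr_inj ((hcon 0).trans (hcon 1).symm)).2
    have hz := C.pr_mem k e
    have hza : Commute a (C.pr k e) := by rw [← ea]; exact (C.pr_comm A k _ _).2 hk
    obtain ⟨q, f, hq, eq⟩ := h.chart.surj _ ⟨hz.1, he, hza⟩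
    have hpq : h4 p q = 0 := (h.chart.comm p q d f hp hq).1 (by rw [← eq]; exact hz.2.2)
    have : Commute b' (C.pr k e) := by rw [eq]; exact (h.chart.comm p q d' f hp hq).2 hpq
    rw [← eb] at this
    exact (C.pr_comm B k _ _).1 this
  obtain ⟨l, hl⟩ := orth_span (rv_iso A) (v := rv B) fun q hq hqA => by
    obtain ⟨k, m, hm, rfl⟩ := exists_pt hq
    rw [← one_smul K4 (rv B), orth_smul hm one_ne_zero]
    refine (orthB_symm _ _).1 (hsub k ((orthB_symm _ _).1 ?_))
    exact (orth_smul hm one_ne_zero).1 (by rwa [one_smul])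
  have hl0 : l ≠ 0 := fun e => (rv_iso B).1 (by rw [hl, e, zero_smul])
  obtain ⟨rfl, -⟩ := pt_unique hl0 hl
  rw [← ey, ← ea]
  refine (C.pr_comm Y A cy ca).2 ((C.pr_comm Y A cy cb).1 ?_)
  rw [ey, eb]; exact h2

/-- the members at distance two from `a` -/
def Far (D : Set K) (a x : K) : Prop := x ∈ D ∧ ¬ Commute a x ∧ ∃ t ∈ perp D a, Commute t x

include h in
theorem Host.sec_unique {x : K} (hx : Far D a x) {p : V4} (hp : Iso p) {d d' : K4}
    (h1 : Commute x (h.chart.pt p d)) (h2 : Commute x (h.chart.pt p d')) : d = d' := by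
  by_contra hne
  exact hx.2.1 (h.fibre hp hne hx.1 h1 h2).symm

include h in
/-- the points met by a member at distance two are closed under orthogonality -/
theorem Host.sec_step {x : K} (hx : Far D a x) {i : Pt} {c : K4}
    (hc : Commute x (h.chart.pr i c)) {j : Pt} (hij : orthB i.1 j.1 = true) :
    ∃ d, Commute x (h.chart.pr j d) := by
  classical
  by_cases hji : j = i
  · exact ⟨c, hji ▸ hc⟩
  set q := h.chart.pr i c
  have hq : q ∈ perp D a := h.chart.pr_mem i c
  obtain ⟨C⟩ := Chart.exists_map h hq.1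
  obtain ⟨A, ca, ea⟩ := C.pr_surj (x := a) ⟨h.mem, Ne.symm hq.2.1, hq.2.2.symm⟩
  obtain ⟨X, cx, ex⟩ := C.pr_surj (x := x) ⟨hx.1, fun e => hx.2.1 (e ▸ hq.2.2), hc.symm⟩
  have hAX : orthB A.1 X.1 = false := Bool.eq_false_iff.2 fun e => hx.2.1 (by
    rw [← ea, ← ex]; exact (C.pr_comm A X _ _).2 e)
  set S := (Finset.univ.filter fun k : Pt => (orthB A.1 k.1 && orthB X.1 k.1) = true) ×ˢ
    (Finset.univ : Finset K4)
  set T := Finset.univ.filter fun k : Pt => (!(k.1 == i.1) && orthB i.1 k.1) = true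
  have hne : ∀ ke ∈ S, C.pr ke.1 ke.2 ∈ perp D a ∧ Commute x (C.pr ke.1 ke.2) := by
    rintro ⟨k, e⟩ hke
    simp only [S, Finset.mem_product, Finset.mem_filter, Finset.mem_univ, true_and, and_true,
      Bool.and_eq_true] at hke
    refine ⟨⟨(C.pr_mem k e).1, fun ee => ?_, by rw [← ea]; exact (C.pr_comm A k _ _).2 hke.1⟩,
      by rw [← ex]; exact (C.pr_comm X k _ _).2 hke.2⟩
    rw [← ea] at ee
    obtain ⟨rfl, -⟩ : k = A ∧ e = ca := C.pr_inj ee
    exact absurd ((orthB_symm _ _).1 hke.2) (by simp [hAX])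
  have key : ∀ ke ∈ S, ∃ k' ∈ T, ∃ d, C.pr ke.1 ke.2 = h.chart.pr k' d := by
    intro ke hke
    obtain ⟨hmem, hcx⟩ := hne ke hke
    obtain ⟨k', d, e⟩ := h.chart.pr_surj hmem
    have hqz := (C.pr_mem ke.1 ke.2).2.2
    rw [← e] at hqz
    refine ⟨k', Finset.mem_filter.2 ⟨Finset.mem_univ _, ?_⟩, d, e.symm⟩
    simp only [Bool.and_eq_true, Bool.not_eq_true', beq_eq_false_iff_ne,
      (h.chart.pr_comm i k' c d).1 hqz, and_true]
    intro ee
    obtain rfl : k' = i := Fin.ext ee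
    rw [← e] at hcx
    have hcd : c = d := h.sec_unique hx (rv_iso _) hc hcx
    exact (C.pr_mem ke.1 ke.2).2.1 (by rw [← e, ← hcd])
  let φ : Pt × K4 → Pt := fun ke => if hk : ke ∈ S then (key ke hk).choose else i
  have hφ : ∀ ke ∈ S, φ ke ∈ T ∧ ∃ d, C.pr ke.1 ke.2 = h.chart.pr (φ ke) d := fun ke hk => by
    simp only [φ, dif_pos hk]; exact (key ke hk).choose_spec
  have hinj : Set.InjOn φ (S : Set (Pt × K4)) := by
    intro u hu v hv e
    obtain ⟨-, d, hd⟩ := hφ u hu
    obtain ⟨-, d', hd'⟩ := hφ v hv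
    have h1 := (hne u hu).2
    have h2 := (hne v hv).2
    rw [hd] at h1; rw [hd', ← e] at h2
    have := h.sec_unique hx (rv_iso _) h1 h2
    rw [this, e, ← hd'] at hd
    obtain ⟨e1, e2⟩ := C.pr_inj hd
    exact Prod.ext e1 e2
  have hcard : (S.image φ).card = T.card := by
    rw [Finset.card_image_of_injOn hinj, Finset.card_product, common_card hAX, around_card,
      Finset.card_univ, K4.card_eq]
  have himg : S.image φ = T := Finset.eq_of_subset_of_card_le
    (Finset.image_subset_iff.2 fun ke hk => (hφ ke hk).1) hcard.ge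
  have hj : j ∈ T := by
    simp only [T, Finset.mem_filter, Finset.mem_univ, true_and, Bool.and_eq_true, hij, and_true,
      Bool.not_eq_true', beq_eq_false_iff_ne]
    exact fun e => hji (Fin.ext e)
  rw [← himg, Finset.mem_image] at hj
  obtain ⟨ke, hke, rfl⟩ := hj
  obtain ⟨-, d, hd⟩ := hφ ke hke
  exact ⟨d, hd ▸ (hne ke hke).2⟩

include h in
theorem Host.exists_sec {x : K} (hx : Far D a x) {p : V4} (hp : Iso p) :
    ∃ d, Commute x (h.chart.pt p d) := by
  obtain ⟨-, -, t, ht, htx⟩ := id hx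
  obtain ⟨i, c, rfl⟩ := h.chart.pr_surj ht
  obtain ⟨j, l, hl, rfl⟩ := exists_pt hp
  obtain ⟨q, hq, h1, h2⟩ := exists_orth (rv_iso i) (rv_iso j)
  obtain ⟨k, m, hm, rfl⟩ := exists_pt hq
  obtain ⟨e, he⟩ := h.sec_step hx htx.symm (j := k)
    ((orth_smul one_ne_zero hm).1 (by rwa [one_smul]))
  obtain ⟨d, hd⟩ := h.sec_step hx he (j := j)
    ((orth_smul hm one_ne_zero).1 (by rwa [one_smul]))
  exact ⟨l * d, by rw [h.chart.scale _ _ _ (rv_iso j) hl]; exact hd⟩

open Classical in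
/-- the coordinate of the near member over a vector that commutes with `x` -/
noncomputable def Host.sec (x : K) (p : V4) : K4 :=
  if hh : ∃ d, Commute x (h.chart.pt p d) then hh.choose else 0

theorem Host.sec_iff {x : K} (hx : Far D a x) {p : V4} (hp : Iso p) (d : K4) :
    Commute x (h.chart.pt p d) ↔ d = h.sec x p := by
  have hh := h.exists_sec hx hp
  have hs : Commute x (h.chart.pt p (h.sec x p)) := by rw [Host.sec, dif_pos hh]; exact hh.choose_spec
  exact ⟨fun e => h.sec_unique hx hp e hs, fun e => e ▸ hs⟩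

theorem Host.sec_smul {x : K} (hx : Far D a x) {p : V4} (hp : Iso p) {l : K4} (hl : l ≠ 0) :
    h.sec x (l • p) = l * h.sec x p := by
  refine ((h.sec_iff hx (hp.smul hl) _).1 ?_).symm
  rw [h.chart.scale _ _ _ hp hl]
  exact (h.sec_iff hx hp _).2 rfl

theorem exists_dual_pair {p q : V4} (hp : Iso p) (hq : Iso q) (hpq : ∀ l : K4, q ≠ l • p)
    (c d : K4) : ∃ v, h4 p v = c ∧ h4 q v = d := by
  have hqp : ∀ l : K4, p ≠ l • q := fun l e => by
    have hl : l ≠ 0 := fun e0 => hp.1 (by rw [e, e0, zero_smul])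
    exact hpq l⁻¹ (by rw [e, smul_smul, inv_mul_cancel₀ hl, one_smul])
  have aux : ∀ {p q : V4}, Iso q → (∀ l : K4, p ≠ l • q) → ∀ c, ∃ v, h4 p v = c ∧ h4 q v = 0 := by
    intro p q hq hpq c
    obtain ⟨r, h1, h2⟩ : ∃ r, h4 r q = 0 ∧ h4 r p ≠ 0 := by
      by_contra hcon
      push Not at hcon
      obtain ⟨l, e⟩ := orth_span hq (v := p) fun r _ h1 => hcon r h1
      exact hpq l e
    have h3 : h4 p r ≠ 0 := fun e => h2 (h4_orth_symm e)
    refine ⟨((c * (h4 p r)⁻¹) * (c * (h4 p r)⁻¹)) • r, ?_, ?_⟩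
    · rw [h4_smul_right, k4_conj_conj, mul_assoc, inv_mul_cancel₀ h3, mul_one]
    · rw [h4_smul_right, h4_orth_symm h1, mul_zero]
  obtain ⟨v, h1, h2⟩ := aux hq hqp c
  obtain ⟨w, h3, h5⟩ := aux hp hpq d
  exact ⟨v + w, by rw [h4_add_right, h1, h5, add_zero], by rw [h4_add_right, h2, h3, zero_add]⟩

include h in
theorem Host.far_shift {x : K} (hx : Far D a x) {g : K} (hg : Commute g a) :
    Far D a (g * x * g⁻¹) := by
  obtain ⟨hxD, hax, t, ht, htx⟩ := hx
  refine ⟨h.conjD g x hxD, fun e => hax ?_, g * t * g⁻¹, ?_, (conj_commute g t x).2 htx⟩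
  · rw [← conj_fix hg] at e; exact (conj_commute g a x).1 e
  · have := perp_conj h.conjD g ht
    rwa [conj_fix hg] at this

theorem Host.sec_shift {x : K} (hx : Far D a x) {g : K} (hg : Commute g a) {w : V4}
    (hw : ∀ p c, Iso p → g * h.chart.pt p c * g⁻¹ = h.chart.pt p (c + h4 p w)) {p : V4} (hp : Iso p) :
    h.sec (g * x * g⁻¹) p = h.sec x p + h4 p w := by
  refine ((h.sec_iff (h.far_shift hx hg) hp _).1 ?_).symm
  rw [← hw p _ hp, conj_commute]
  exact (h.sec_iff hx hp _).2 rfl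

include h in
/-- sections respect the lines of near members -/
theorem Host.sec_line {x y : K} (hx : Far D a x) (hy : Far D a y) {p q : V4} (hp : Iso p) (hq : Iso q)
    (hpq : h4 p q = 0) (hr : Iso (p + q)) (hind : ∀ l : K4, q ≠ l • p)
    (e1 : h.sec y p = h.sec x p) (e2 : h.sec y q = h.sec x q) :
    h.sec y (p + q) = h.sec x (p + q) := by
  set Q := h.chart.pt p (h.sec x p)
  set R := h.chart.pt q (h.sec x q)
  set W := h.chart.pt (p + q) (h.sec x (p + q))
  have hxQ : Commute x Q := (h.sec_iff hx hp _).2 rfl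
  have hxR : Commute x R := (h.sec_iff hx hq _).2 rfl
  have hxW : Commute x W := (h.sec_iff hx hr _).2 rfl
  have hyQ : Commute y Q := (h.sec_iff hy hp _).2 e1.symm
  have hyR : Commute y R := (h.sec_iff hy hq _).2 e2.symm
  have hQ : Q ∈ perp D a := h.chart.mem _ _ hp
  have hR : R ∈ perp D a := h.chart.mem _ _ hq
  have hW : W ∈ perp D a := h.chart.mem _ _ hr
  have h0 : h4 p (p + q) = 0 := by rw [h4_add_right, hp.2, hpq, add_zero]
  have h1 : h4 q (p + q) = 0 := by rw [h4_add_right, hq.2, h4_orth_symm hpq, zero_add]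
  have cQR : Commute Q R := (h.chart.comm _ _ _ _ hp hq).2 hpq
  have cQW : Commute Q W := (h.chart.comm _ _ _ _ hp hr).2 h0
  have cRW : Commute R W := (h.chart.comm _ _ _ _ hq hr).2 h1
  have nRQ : R ≠ Q := fun e => by
    obtain ⟨l, -, e', -⟩ := h.chart.inj _ _ _ _ hp hq e.symm
    exact hind l e'
  have nWQ : W ≠ Q := fun e => by
    obtain ⟨l, -, e', -⟩ := h.chart.inj _ _ _ _ hp hr e.symm
    exact hind (l + 1) (by
      rw [add_smul, one_smul, ← e', add_comm p q, add_assoc, vadd_self, add_zero])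
  obtain ⟨C⟩ := Chart.exists_map h hQ.1
  obtain ⟨A, ca, ea⟩ := C.pr_surj (x := a) ⟨h.mem, Ne.symm hQ.2.1, hQ.2.2.symm⟩
  obtain ⟨X, cx, ex⟩ := C.pr_surj (x := x) ⟨hx.1, fun e => hx.2.1 (e ▸ hQ.2.2), hxQ.symm⟩
  obtain ⟨Y, cy, ey⟩ := C.pr_surj (x := y) ⟨hy.1, fun e => hy.2.1 (e ▸ hQ.2.2), hyQ.symm⟩
  obtain ⟨R', cr, er⟩ := C.pr_surj (x := R) ⟨hR.1, nRQ, cQR⟩
  obtain ⟨W', cw, ew⟩ := C.pr_surj (x := W) ⟨hW.1, nWQ, cQW⟩
  rw [← ea, ← er] at hR; rw [← ea, ← ew] at hW
  rw [← ex, ← er] at hxR; rw [← ex, ← ew] at hxW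
  rw [← er, ← ew] at cRW; rw [← ey, ← er] at hyR
  have hAX : orthB A.1 X.1 = false := Bool.eq_false_iff.2 fun e => hx.2.1 (by
    rw [← ea, ← ex]; exact (C.pr_comm A X _ _).2 e)
  obtain rfl : R' = W' := common_pairwise hAX ((C.pr_comm _ _ _ _).1 hR.2.2)
    ((C.pr_comm _ _ _ _).1 hxR) ((C.pr_comm _ _ _ _).1 hW.2.2) ((C.pr_comm _ _ _ _).1 hxW)
    ((C.pr_comm _ _ _ _).1 cRW)
  refine ((h.sec_iff hy hr _).1 ?_).symm
  show Commute y W
  rw [← ey, ← ew]
  exact (C.pr_comm _ _ _ _).2 ((C.pr_comm _ _ _ _).1 hyR)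

include h in
theorem Host.sec_translate {x y : K} (hx : Far D a x) (hy : Far D a y) :
    ∃ w : V4, ∀ p, Iso p → h.sec y p = h.sec x p + h4 p w := by
  have ha : ∀ p q, Iso p → Iso q → h4 p q = 0 → Iso (p + q) →
      h.sec y (p + q) + h.sec x (p + q) = h.sec y p + h.sec x p + (h.sec y q + h.sec x q) := by
    intro p q hp hq hpq hr
    by_cases hind : ∀ l : K4, q ≠ l • p
    · obtain ⟨v, hv1, hv2⟩ := exists_dual_pair hp hq hind (h.sec y p + h.sec x p)
        (h.sec y q + h.sec x q)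
      obtain ⟨g, hg, hg'⟩ := h.chart.shift v
      have e := h.sec_line hx (h.far_shift hy hg) hp hq hpq hr hind
        (by rw [h.sec_shift hy hg hg' hp, hv1, ← add_assoc, k4_two, zero_add])
        (by rw [h.sec_shift hy hg hg' hq, hv2, ← add_assoc, k4_two, zero_add])
      rw [h.sec_shift hy hg hg' hr, h4_add_left, hv1, hv2] at e
      rw [← e]
      linear_combination k4_two (h.sec y (p + q))
    · push Not at hind
      obtain ⟨l, rfl⟩ := hind
      have hl : l ≠ 0 := fun e => hq.1 (by rw [e, zero_smul])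
      have e : p + l • p = (1 + l) • p := by rw [add_smul, one_smul]
      have hl1 : 1 + l ≠ 0 := fun e0 => hr.1 (by rw [e, e0, zero_smul])
      simp only [e, h.sec_smul hx hp hl1, h.sec_smul hy hp hl1, h.sec_smul hx hp hl,
        h.sec_smul hy hp hl]
      ring
  obtain ⟨w, hw⟩ := exists_vector (fun p => h.sec y p + h.sec x p)
    (fun p l hp hl => by simp only [h.sec_smul hx hp hl, h.sec_smul hy hp hl]; ring) ha
  refine ⟨w, fun p hp => ?_⟩
  rw [← hw p hp]
  linear_combination -k4_two (h.sec x p)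

include h in
/-- two members at distance two with one section differ at most by `a` -/
theorem Host.pair_section {x y : K} (hx : Far D a x) (hy : Far D a y)
    (e : ∀ p, Iso p → h.sec y p = h.sec x p) : y = x ∨ y = a * x * a⁻¹ := by
  obtain ⟨p, hp⟩ : ∃ p, Iso p := ⟨rv 0, rv_iso 0⟩
  obtain ⟨q, hq, hpq⟩ := exists_nonorth hp
  set Q := h.chart.pt p (h.sec x p)
  set R := h.chart.pt q (h.sec x q)
  have hQ : Q ∈ perp D a := h.chart.mem _ _ hp
  have hR : R ∈ perp D a := h.chart.mem _ _ hq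
  have hQR : ¬ Commute R Q := fun ee => hpq ((h.chart.comm _ _ _ _ hp hq).1 ee.symm)
  set hH := h.rebase hQ.1
  have key : ∀ z, Far D a z → (∀ r, Iso r → h.sec z r = h.sec x r) →
      ∃ Z cz, hH.chart.pr Z cz = z ∧ Commute z R := by
    intro z hz ez
    obtain ⟨Z, cz, ezz⟩ := hH.chart.pr_surj (x := z)
      ⟨hz.1, fun ee => hz.2.1 (ee ▸ hQ.2.2), ((h.sec_iff hz hp _).2 (ez p hp).symm).symm⟩
    exact ⟨Z, cz, ezz, (h.sec_iff hz hq _).2 (ez q hq).symm⟩
  have hax : Far D a (a * x * a⁻¹) := h.far_shift hx (Commute.refl a)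
  have eax : ∀ r, Iso r → h.sec (a * x * a⁻¹) r = h.sec x r := fun r hr => by
    refine ((h.sec_iff hax hr _).1 ?_).symm
    rw [← conj_fix (h.chart.mem r (h.sec x r) hr).2.2, conj_commute]
    exact (h.sec_iff hx hr _).2 rfl
  obtain ⟨A, ca, ea⟩ := hH.chart.pr_surj (x := a) ⟨h.mem, Ne.symm hQ.2.1, hQ.2.2.symm⟩
  have same : ∀ z z', Far D a z → Commute z R → Commute z' R → ∀ Z c c',
      hH.chart.pr Z c = z → hH.chart.pr Z c' = z' → z' = z := by
    intro z z' hz h1 h2 Z c c' e1 e2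
    by_contra hne
    refine hQR (hH.fibre (p := rv Z) (rv_iso Z) (d := c) (d' := c') (fun ee => hne ?_) hR.1 ?_ ?_)
    · rw [← e1, ← e2, ee]
    · show Commute R (hH.chart.pr Z c); rw [e1]; exact h1.symm
    · show Commute R (hH.chart.pr Z c'); rw [e2]; exact h2.symm
  obtain ⟨X, cx, ex, hxR⟩ := key x hx fun _ _ => rfl
  obtain ⟨Y, cy, ey, hyR⟩ := key y hy e
  obtain ⟨X', cx', ex', hxR'⟩ := key _ hax eax
  have hAX : orthB A.1 X.1 = false := Bool.eq_false_iff.2 fun ee => hx.2.1 (by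
    rw [← ea, ← ex]; exact (hH.chart.pr_comm A X _ _).2 ee)
  have hcomm : ∀ z Z cz, Far D a z → (∀ r, Iso r → h.sec z r = h.sec x r) → hH.chart.pr Z cz = z →
      ∀ s : Pt, orthB A.1 s.1 = true → orthB X.1 s.1 = true → orthB Z.1 s.1 = true := by
    intro z Z cz hz ez ezz s h1 h2
    have hs := hH.chart.pr_mem s 0
    have hsa : hH.chart.pr s 0 ≠ a := fun ee => by
      rw [← ea] at ee
      rw [(hH.chart.pr_inj ee).1] at h2
      exact absurd ((orthB_symm _ _).1 h2) (by simp [hAX])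
    obtain ⟨r, d, hr, er⟩ := h.chart.surj (hH.chart.pr s 0)
      ⟨hs.1, hsa, by rw [← ea]; exact (hH.chart.pr_comm A s _ _).2 h1⟩
    have hxs : Commute x (h.chart.pt r d) := by
      rw [← er, ← ex]; exact (hH.chart.pr_comm X s _ _).2 h2
    have hzs : Commute z (h.chart.pt r d) :=
      (h.sec_iff hz hr d).2 (((h.sec_iff hx hr d).1 hxs).trans (ez r hr).symm)
    rw [← er, ← ezz] at hzs
    exact (hH.chart.pr_comm Z s _ _).1 hzs
  rcases third_point hAX (hcomm y Y cy hy e ey) with rfl | rfl | ⟨l, hl, el⟩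
  · refine absurd ?_ hy.2.1
    have ee := (hH.chart.pr_comm Y Y ca cy).2 (orthB_self _)
    rwa [ea, ey] at ee
  · exact Or.inl (same x y hx hxR hyR _ cx cy ex ey)
  rcases third_point hAX (hcomm _ X' cx' hax eax ex') with rfl | rfl | ⟨l', hl', el'⟩
  · refine absurd ?_ hax.2.1
    have ee := (hH.chart.pr_comm X' X' ca cx').2 (orthB_self _)
    rwa [ea, ex'] at ee
  · exfalso
    have ee := same x _ hx hxR hxR' _ cx cx' ex ex'
    exact hx.2.1 (mul_inv_eq_iff_eq_mul.1 ee)
  obtain ⟨rfl, -⟩ : Y = X' ∧ l'⁻¹ * l = 1 := pt_unique (mul_ne_zero (inv_ne_zero hl') hl) (by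
    rw [mul_smul, ← el, el', smul_smul, inv_mul_cancel₀ hl', one_smul])
  exact Or.inr (same _ y hax hxR' hyR _ cx' cy ex' ey)

include h in
theorem Host.exists_far : ∃ x, Far D a x := by
  have ht := h.chart.pr_mem 0 0
  obtain ⟨C⟩ := Chart.exists_map h ht.1
  obtain ⟨A, ca, ea⟩ := C.pr_surj (x := a) ⟨h.mem, Ne.symm ht.2.1, ht.2.2.symm⟩
  obtain ⟨q, hq, hne⟩ := exists_nonorth (rv_iso A)
  obtain ⟨X, l, hl, rfl⟩ := exists_pt hq
  refine ⟨C.pr X 0, (C.pr_mem X 0).1, fun e => hne ?_, _, ht, (C.pr_mem X 0).2.2⟩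
  have e' : Commute (C.pr A ca) (C.pr X 0) := by rw [ea]; exact e
  rw [← one_smul K4 (rv A)]
  exact (orth_smul one_ne_zero hl).2 ((C.pr_comm A X _ _).1 e')

include h in
/-- a neighbour of a member at distance two is at distance at most two -/
theorem Host.far_step {x y : K} (hx : Far D a x) (hy : y ∈ D) (hxy : Commute x y) : Rel D a y := by
  by_cases hay : Commute a y
  · exact ⟨hy, Or.inl hay⟩
  refine ⟨hy, Or.inr ?_⟩
  obtain ⟨hxD, hax, t, ht, htx⟩ := id hx
  by_cases hyx : y = x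
  · exact hyx ▸ ⟨t, ht, htx⟩
  set hH := h.rebase hxD
  have htx' : t ≠ x := fun e => hax (e ▸ ht.2.2)
  have hfar : Far D x a :=
    ⟨h.mem, fun e => hax e.symm, t, ⟨ht.1, htx', htx.symm⟩, ht.2.2.symm⟩
  obtain ⟨p, c, hp, rfl⟩ := hH.chart.surj y ⟨hy, hyx, hxy⟩
  have hs := hH.chart.mem p (hH.sec a p) hp
  have has : Commute a (hH.chart.pt p (hH.sec a p)) := (hH.sec_iff hfar hp _).2 rfl
  exact ⟨_, ⟨hs.1, fun e => hax (e ▸ hs.2.2.symm), has⟩, (hH.chart.comm p p _ _ hp hp).2 hp.2⟩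

end Cfsg.Agent.Lib.U62Recog47
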